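import Groth.Agent.CalgA.CatOrder
import Groth.Agent.Ega4B.CatHeight
import Mathlib.RingTheory.KrullDimension.Basic
import Mathlib.RingTheory.KrullDimension.LocalRing
import Mathlib.RingTheory.Ideal.MinimalPrime.Basic

/-!
# Catenary rings: minimal primes and dimension functions
-/

set_option autoImplicit false

namespace K68.Cat

universe u v w

open Groth.Agent.CalgA.CatOrder Groth.Agent.Ega4B.CatHeight

section Order

variable {α : Type u} [Preorder α]

/-- A preorder is catenary as soon as each principal upper set is contained in the range of an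
order embedding from a catenary preorder. -/
theorem ordCat_of_forall_exists_upper
    (h : ∀ q : α, ∃ (β : Type v) (_ : Preorder β) (f : β ↪o α),
      (∀ a, q ≤ a → a ∈ Set.range f) ∧ OrdCat β) : OrdCat α := by
  refine ⟨fun p q hpq => ?_, fun s t hhead hlast hs ht => ?_⟩
  · obtain ⟨β, _, f, hf, hβ⟩ := h p
    obtain ⟨p', hp'⟩ := hf p le_rfl
    obtain ⟨q', hq'⟩ := hf q hpq
    obtain ⟨n, hn⟩ := hβ.1 p' q' (by rwa [← f.le_iff_le, hp', hq'])
    refine ⟨n, fun s hs1 hs2 => ?_⟩
    obtain ⟨t, ht1, ht2, ht3, -⟩ := exists_lift f s (fun i => hf _ (by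
      rw [← hs1]; exact s.monotone (Fin.zero_le i)))
    rw [← ht1]
    refine hn t (f.injective ?_) (f.injective ?_)
    · rw [ht2, hp', hs1]
    · rw [ht3, hq', hs2]
  · obtain ⟨β, _, f, hf, hβ⟩ := h s.head
    obtain ⟨s', hs1, hs2, hs3, hs4⟩ := exists_lift f s (fun i => hf _ (s.monotone (Fin.zero_le i)))
    obtain ⟨t', ht1, ht2, ht3, ht4⟩ := exists_lift f t (fun i => hf _ (by
      rw [hhead]; exact t.monotone (Fin.zero_le i)))
    rw [← hs1, ← ht1]
    refine hβ.2 s' t' (f.injective ?_) (f.injective ?_) (hs4 hs) (ht4 ht)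
    · rw [hs2, ht2, hhead]
    · rw [hs3, ht3, hlast]

end Order

theorem isCatenary_iff_forall_quotient_minimalPrimes (R : Type u) [CommRing R] :
    CAlg.IsCatenary R ↔ ∀ p ∈ minimalPrimes R, CAlg.IsCatenary (R ⧸ p) := by
  refine ⟨fun h p _ => isCatenary_of_surjective (Ideal.Quotient.mk p)
    Ideal.Quotient.mk_surjective h, fun h => ?_⟩
  rw [isCatenary_iff]
  refine ordCat_of_forall_exists_upper (fun q => ?_)
  obtain ⟨p, hp, hpq⟩ := Ideal.exists_minimalPrimes_le (show (⊥ : Ideal R) ≤ q.asIdeal from bot_le)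
  refine ⟨PrimeSpectrum (R ⧸ p), inferInstance,
    comapSurj (Ideal.Quotient.mk p) Ideal.Quotient.mk_surjective, fun a ha => ?_, h p hp⟩
  rw [range_comapSurj]
  change RingHom.ker _ ≤ a.asIdeal
  rw [Ideal.mk_ker]
  exact hpq.trans ha

section Local

variable (A : Type u) [CommRing A] [IsLocalRing A]

theorem ringKrullDim_quotient_eq_rlen (p : PrimeSpectrum A) :
    ringKrullDim (A ⧸ p.asIdeal) = (rlen p (IsLocalRing.closedPoint A) : WithBot ℕ∞) := by
  have hm : p.asIdeal ≤ IsLocalRing.maximalIdeal A := IsLocalRing.le_maximalIdeal p.2.ne_top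
  have h1 := height_map_mk p.asIdeal (IsLocalRing.maximalIdeal A) hm
  have : IsLocalRing (A ⧸ p.asIdeal) :=
    IsLocalRing.of_surjective' (Ideal.Quotient.mk p.asIdeal) Ideal.Quotient.mk_surjective
  have h2 : (IsLocalRing.maximalIdeal A).map (Ideal.Quotient.mk p.asIdeal) =
      IsLocalRing.maximalIdeal (A ⧸ p.asIdeal) :=
    IsLocalRing.map_maximalIdeal_of_surjective _ Ideal.Quotient.mk_surjective
  rw [h2] at h1
  rw [← IsLocalRing.maximalIdeal_height_eq_ringKrullDim, h1]
  rfl

theorem isCatenary_iff_ringKrullDim_quotient_dimFun [IsNoetherianRing A] :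
    CAlg.IsCatenary A ↔
      ∀ p q : PrimeSpectrum A, p < q →
        ringKrullDim (A ⧸ q.asIdeal) < ringKrullDim (A ⧸ p.asIdeal) ∧
          (p ⋖ q → ringKrullDim (A ⧸ p.asIdeal) = ringKrullDim (A ⧸ q.asIdeal) + 1) := by
  have hle : ∀ p : PrimeSpectrum A, p ≤ IsLocalRing.closedPoint A :=
    fun p => IsLocalRing.le_maximalIdeal p.2.ne_top
  simp only [ringKrullDim_quotient_eq_rlen]
  constructor
  · intro h
    rw [Groth.Agent.Ega4B.CatHeight.isCatenary_iff] at h
    intro p q hpq
    have h1 := h p q _ hpq.le (hle q)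
    refine ⟨?_, fun hc => ?_⟩
    · rw [h1]
      have h2 := one_le_rlen hpq
      have h3 : rlen q (IsLocalRing.closedPoint A) < rlen p q + rlen q (IsLocalRing.closedPoint A) := by
        obtain ⟨a, ha⟩ := ENat.ne_top_iff_exists.mp (rlen_ne_top q (IsLocalRing.closedPoint A))
        obtain ⟨b, hb⟩ := ENat.ne_top_iff_exists.mp (rlen_ne_top p q)
        rw [← hb] at h2
        rw [← ha, ← hb]
        have h4 : 1 ≤ b := by exact_mod_cast h2
        have : a < b + a := by omega
        exact_mod_cast this
      exact_mod_cast h3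
    · rw [h1, rlen_eq_one_of_covBy hc, add_comm]
      rfl
  · intro h
    have hne : ∀ p : PrimeSpectrum A, rlen p (IsLocalRing.closedPoint A) ≠ ⊤ :=
      fun p => rlen_ne_top p _
    have hstep : ∀ p q : PrimeSpectrum A, p ⋖ q →
        rlen p (IsLocalRing.closedPoint A) = rlen q (IsLocalRing.closedPoint A) + 1 := by
      intro p q hpq
      have := (h p q hpq.lt).2 hpq
      exact_mod_cast this
    have key : ∀ s : LTSeries (PrimeSpectrum A), Sat s →
        rlen s.head (IsLocalRing.closedPoint A) =
          s.length + rlen s.last (IsLocalRing.closedPoint A) := by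
      intro s hs
      have aux : ∀ n (hn : n < s.length + 1), rlen s.head (IsLocalRing.closedPoint A) =
          n + rlen (s ⟨n, hn⟩) (IsLocalRing.closedPoint A) := by
        intro n
        induction n with
        | zero =>
          intro hn
          have : s ⟨0, hn⟩ = s.head := rfl
          rw [this]; simp
        | succ n ih =>
          intro hn
          have hc := hs ⟨n, by omega⟩
          have e1 : s (Fin.castSucc ⟨n, by omega⟩) = s ⟨n, by omega⟩ := rfl
          have e2 : s (Fin.succ ⟨n, by omega⟩) = s ⟨n + 1, hn⟩ := rfl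
          rw [e1, e2] at hc
          rw [ih (by omega), hstep _ _ hc]
          push_cast
          rw [add_assoc, add_comm (rlen _ _) 1]
      exact aux s.length (by omega)
    refine ⟨fun p q _ ↦ ?_, fun s t h1 h2 h3 h4 ↦ ?_⟩
    · obtain ⟨n, hn⟩ := ENat.ne_top_iff_exists.mp (rlen_ne_top p q)
      refine ⟨n, fun s h1 h2 ↦ ?_⟩
      have := le_rlen s h1 h2
      rw [← hn] at this
      exact_mod_cast this
    · have e1 := key s h3
      have e2 := key t h4
      rw [h1, h2, e2] at e1
      have h5 := hne t.last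
      obtain ⟨a, ha⟩ := ENat.ne_top_iff_exists.mp h5
      rw [← ha] at e1
      have e3 : t.length + a = s.length + a := by exact_mod_cast e1
      omega

end Local

end K68.Cat
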