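import Groth.Agent.Ega4A.CMCatenary
import Groth.Agent.Ega4A.CMFields

/-!
# Saturated chains of primes in Cohen-Macaulay rings
-/

set_option autoImplicit false
universe u

namespace K68.CMChain

/-- In a Cohen-Macaulay ring the length of a saturated chain of primes is the difference of the
heights of its ends. -/
theorem length_saturated_chain (R : Type u) [CommRing R] [LocCoh.IsCohenMacaulayRing R]
    (s : LTSeries (PrimeSpectrum R))
    (hsat : ∀ i : Fin s.length, s (Fin.castSucc i) ⋖ s (Fin.succ i)) :
    (s.length : ℕ∞) + s.head.asIdeal.height = s.last.asIdeal.height := by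
  have key : ∀ n (hn : n < s.length + 1), (n : ℕ∞) + s.head.asIdeal.height =
      (s ⟨n, hn⟩).asIdeal.height := by
    intro n
    induction n with
    | zero =>
      intro hn
      have : s ⟨0, hn⟩ = s.head := rfl
      rw [this]; simp
    | succ n ih =>
      intro hn
      have hc := hsat ⟨n, by omega⟩
      have e1 : s (Fin.castSucc ⟨n, by omega⟩) = s ⟨n, by omega⟩ := rfl
      have e2 : s (Fin.succ ⟨n, by omega⟩) = s ⟨n + 1, hn⟩ := rfl
      rw [e1, e2] at hc
      rw [Groth.Agent.Ega4A.CMCatenary.height_eq_of_covBy_of_isCohenMacaulayRing hc,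
        ← ih (by omega)]
      push_cast
      rw [add_assoc, add_assoc, add_comm (1 : ℕ∞)]
  exact key s.length (by omega)

end K68.CMChain
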