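import Groth.Agent.CAlg.K68.CMFT
import Groth.Agent.CAlg.K68.CMChain
import Groth.Agent.Ega4B.CatHeight
import Mathlib.RingTheory.Localization.Away.Lemmas
import Mathlib.RingTheory.Idempotents

/-!
# Decomposition of a Cohen-Macaulay algebra of finite type over a field into equidimensional pieces
-/

set_option autoImplicit false

namespace K68.CMDecomp

universe u v

open PrimeSpectrum

/-- A finite partition of the spectrum into clopen sets comes from complete orthogonal
idempotents. -/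
theorem exists_idempotents {S : Type*} [CommRing S] {ι : Type*} [Fintype ι]
    (Z : ι → Set (PrimeSpectrum S)) (hZ : ∀ i, IsClopen (Z i))
    (hd : ∀ i j, i ≠ j → Disjoint (Z i) (Z j)) (hc : ∀ x, ∃ i, x ∈ Z i) :
    ∃ e : ι → S, CompleteOrthogonalIdempotents e ∧
      ∀ i, (basicOpen (e i) : Set (PrimeSpectrum S)) = Z i := by
  classical
  choose e he heZ using fun i => PrimeSpectrum.isClopen_iff.1 (hZ i)
  have hmem : ∀ i x, x ∈ Z i ↔ e i ∉ x.asIdeal := by
    intro i x
    rw [heZ i]
    rfl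
  have hortho : ∀ i j, i ≠ j → e i * e j = 0 := by
    intro i j hij
    apply basicOpen_injOn_isIdempotentElem ((he i).mul (he j)) IsIdempotentElem.zero
    rw [basicOpen_mul, basicOpen_zero]
    ext x
    constructor
    · rintro ⟨h1, h2⟩
      exact (Set.disjoint_left.1 (hd i j hij) ((hmem i x).2 h1) ((hmem j x).2 h2)).elim
    · exact fun h => h.elim
  have horth : OrthogonalIdempotents e := ⟨he, hortho⟩
  refine ⟨e, ⟨horth, ?_⟩, fun i => (heZ i).symm⟩
  apply basicOpen_injOn_isIdempotentElem (horth.isIdempotentElem_sum) IsIdempotentElem.one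
  rw [basicOpen_one]
  ext x
  refine ⟨fun _ => trivial, fun _ => ?_⟩
  obtain ⟨i, hi⟩ := hc x
  change (∑ j, e j) ∉ x.asIdeal
  intro hsum
  have h1 : e i ∉ x.asIdeal := (hmem i x).1 hi
  apply h1
  have h2 : e i * ∑ j, e j = e i := by
    rw [horth.mul_sum_of_mem (Finset.mem_univ i)]
  rw [← h2]
  exact x.asIdeal.mul_mem_left _ hsum

section

variable (k : Type u) {S : Type u} [Field k] [CommRing S] [Algebra k S] [Algebra.FiniteType k S]
  [LocCoh.IsCohenMacaulayRing S]

include k in
/-- In a Cohen-Macaulay algebra of finite type over a field, all irreducible components through a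
maximal ideal have the same dimension. -/
theorem ringKrullDim_quotient_eq (m p : Ideal S) [hm : m.IsMaximal] (hp : p ∈ minimalPrimes S)
    (hpm : p ≤ m) : ringKrullDim (S ⧸ p) = (m.height : WithBot ℕ∞) := by
  have hpp : p.IsPrime := hp.1.1
  have hmp : m.IsPrime := hm.isPrime
  have hle : (⟨p, hpp⟩ : PrimeSpectrum S) ≤ ⟨m, hmp⟩ := hpm
  obtain ⟨s, h1, h2, h3, h4⟩ := Groth.Agent.Ega4B.CatHeight.exists_sat hle
    (Groth.Agent.Ega4B.CatHeight.rlen_ne_top _ _)
  have h5 := K68.CMChain.length_saturated_chain S s h4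
  rw [h1, h2, h3] at h5
  have h6 : p.height = 0 := Ideal.height_eq_zero_iff.mpr hp
  have h7 : Groth.Agent.Ega4B.CatHeight.rlen (⟨p, hpp⟩ : PrimeSpectrum S) ⟨m, hmp⟩ = m.height := by
    simpa [h6] using h5
  rw [← Groth.Agent.Ega4B.CatHeight.height_map_mk p m hpm] at h7
  have hmax : (m.map (Ideal.Quotient.mk p)).IsMaximal := by
    refine (Ideal.map_eq_top_or_isMaximal_of_surjective _ Ideal.Quotient.mk_surjective
      hm).resolve_left ?_
    intro h
    have := Ideal.comap_map_mk hpm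
    rw [h, Ideal.comap_top] at this
    exact hm.ne_top this.symm
  rw [← Groth.Agent.CalgC.DimFT.height_eq_ringKrullDim_of_isMaximal k (S ⧸ p)
    (m.map (Ideal.Quotient.mk p)), h7]

end

/-- The union of the components of dimension `d`. -/
def comp (S : Type u) [CommRing S] (d : ℕ) : Set (PrimeSpectrum S) :=
  ⋃ p ∈ {p ∈ minimalPrimes S | ringKrullDim (S ⧸ p) = d}, zeroLocus (p : Set S)

theorem mem_comp_iff {S : Type u} [CommRing S] (d : ℕ) (x : PrimeSpectrum S) :
    x ∈ comp S d ↔ ∃ p ∈ minimalPrimes S, ringKrullDim (S ⧸ p) = d ∧ p ≤ x.asIdeal := by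
  simp only [comp, Set.mem_iUnion, Set.mem_ofPred_eq, exists_prop, mem_zeroLocus, SetLike.coe_subset_coe]
  constructor
  · rintro ⟨p, ⟨h1, h2⟩, h3⟩
    exact ⟨p, h1, h2, h3⟩
  · rintro ⟨p, h1, h2, h3⟩
    exact ⟨p, ⟨h1, h2⟩, h3⟩

theorem isClosed_comp {S : Type u} [CommRing S] [IsNoetherianRing S] (d : ℕ) :
    IsClosed (comp S d) := by
  have hfin : {p ∈ minimalPrimes S | ringKrullDim (S ⧸ p) = d}.Finite :=
    (minimalPrimes.finite_of_isNoetherianRing S).subset (fun x hx => hx.1)
  exact hfin.isClosed_biUnion fun q _ => isClosed_zeroLocus _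

section

variable (k : Type u) {S : Type u} [Field k] [CommRing S] [Algebra k S] [Algebra.FiniteType k S]

include k in
theorem disjoint_comp [LocCoh.IsCohenMacaulayRing S] (i j : ℕ) (hij : i ≠ j) :
    Disjoint (comp S i) (comp S j) := by
  rw [Set.disjoint_left]
  intro x hi hj
  rw [mem_comp_iff] at hi hj
  obtain ⟨p, hp, hpd, hpx⟩ := hi
  obtain ⟨q, hq, hqd, hqx⟩ := hj
  obtain ⟨m, hm, hxm⟩ := Ideal.exists_le_maximal x.asIdeal x.2.ne_top
  have h1 := ringKrullDim_quotient_eq k m p hp (hpx.trans hxm)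
  have h2 := ringKrullDim_quotient_eq k m q hq (hqx.trans hxm)
  rw [hpd] at h1
  rw [hqd] at h2
  exact hij (by exact_mod_cast h1.trans h2.symm)

include k in
variable (S) in
theorem exists_bound :
    ∃ N : ℕ, ∀ p ∈ minimalPrimes S, ∃ d : Fin (N + 1), ringKrullDim (S ⧸ p) = (d : ℕ) := by
  obtain ⟨N, f, hf⟩ := Algebra.FiniteType.iff_quotient_mvPolynomial''.1
    (inferInstance : Algebra.FiniteType k S)
  refine ⟨N, fun p hp => ?_⟩
  have hpp : p.IsPrime := hp.1.1
  obtain ⟨d, h1, -, -⟩ := Groth.Agent.CalgC.DimFT.exists_dim k (S ⧸ p)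
  have h2 : ringKrullDim (S ⧸ p) ≤ N := by
    refine (ringKrullDim_le_of_surjective _ (Ideal.Quotient.mk_surjective (I := p))).trans ?_
    refine (ringKrullDim_le_of_surjective (f : MvPolynomial (Fin N) k →+* S) hf).trans ?_
    rw [Groth.Agent.CalgC.DimFT.ringKrullDim_mvPolynomial_fin]
  rw [h1] at h2
  have h3 : d ≤ N := by exact_mod_cast h2
  exact ⟨⟨d, by omega⟩, h1⟩

theorem exists_pi_decomposition (k S : Type u) [Field k] [CommRing S]
    [Algebra k S] [Algebra.FiniteType k S] [LocCoh.IsCohenMacaulayRing S] :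
    ∃ (N : ℕ) (T : Fin (N + 1) → Type u) (_ : ∀ d, CommRing (T d)) (_ : ∀ d, Algebra k (T d)),
      Nonempty (S ≃ₐ[k] ((d : Fin (N + 1)) → T d)) ∧
        ∀ (d : Fin (N + 1)) (m : Ideal (T d)), m.IsMaximal → m.height = (d : ℕ) := by
  obtain ⟨N, hN⟩ := exists_bound k S
  have hcover : ∀ x : PrimeSpectrum S, ∃ d : Fin (N + 1), x ∈ comp S d := by
    intro x
    obtain ⟨p, hp, hpx⟩ := Ideal.exists_minimalPrimes_le (show (⊥ : Ideal S) ≤ x.asIdeal from bot_le)
    obtain ⟨d, hd⟩ := hN p hp
    exact ⟨d, (mem_comp_iff _ _).2 ⟨p, hp, hd, hpx⟩⟩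
  have hdisj : ∀ i j : Fin (N + 1), i ≠ j → Disjoint (comp S i) (comp S j) :=
    fun i j hij => disjoint_comp k _ _ (fun h => hij (Fin.ext h))
  have hclopen : ∀ i : Fin (N + 1), IsClopen (comp S i) := by
    intro i
    refine ⟨isClosed_comp _, ?_⟩
    rw [← isClosed_compl_iff]
    have : (comp S i)ᶜ = ⋃ j ∈ {j : Fin (N + 1) | j ≠ i}, comp S j := by
      ext x
      simp only [Set.mem_compl_iff, Set.mem_iUnion, exists_prop, Set.mem_ofPred_eq]
      constructor
      · intro hx
        obtain ⟨j, hj⟩ := hcover x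
        refine ⟨j, ?_, hj⟩
        rintro rfl
        exact hx hj
      · rintro ⟨j, hj, hxj⟩ hxi
        exact Set.disjoint_left.1 (hdisj j i hj) hxj hxi
    rw [this]
    exact (Set.toFinite _).isClosed_biUnion fun j _ => isClosed_comp _
  obtain ⟨e, he, heZ⟩ := exists_idempotents (fun i : Fin (N + 1) => comp S i) hclopen hdisj hcover
  refine ⟨N, fun d => S ⧸ Ideal.span {1 - e d}, fun d => inferInstance, fun d => inferInstance,
    ⟨AlgEquiv.ofBijective
      (AlgHom.pi (R := k) (fun d => Ideal.Quotient.mkₐ k (Ideal.span {1 - e d}))) he.bijective_pi⟩, ?_⟩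
  intro d M hM
  have hloc : IsLocalization.Away (e d) (S ⧸ Ideal.span {1 - e d}) :=
    IsLocalization.Away.quotient_of_isIdempotentElem (he.idem d)
  rw [← IsLocalization.height_under (Submonoid.powers (e d)) M]
  have hmax : (M.under S).IsMaximal :=
    Ideal.comap_isMaximal_of_surjective (Ideal.Quotient.mk _) Ideal.Quotient.mk_surjective
  have hmem : 1 - e d ∈ M.under S := by
    change Ideal.Quotient.mk _ (1 - e d) ∈ M
    have h0 : Ideal.Quotient.mk (Ideal.span {1 - e d}) (1 - e d) = 0 :=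
      Ideal.Quotient.eq_zero_iff_mem.2 (Ideal.mem_span_singleton_self _)
    rw [h0]
    exact zero_mem _
  have hnot : e d ∉ M.under S := by
    intro h
    apply hmax.ne_top
    rw [Ideal.eq_top_iff_one]
    have := add_mem hmem h
    simpa using this
  have h1 : (⟨M.under S, hmax.isPrime⟩ : PrimeSpectrum S) ∈ comp S d := by
    have : (⟨M.under S, hmax.isPrime⟩ : PrimeSpectrum S) ∈
        (basicOpen (e d) : Set (PrimeSpectrum S)) := hnot
    rw [heZ d] at this
    exact this
  rw [mem_comp_iff] at h1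
  obtain ⟨p, hp, hpd, hpM⟩ := h1
  have h2 := ringKrullDim_quotient_eq k (M.under S) p hp hpM
  rw [hpd] at h2
  exact_mod_cast h2.symm

end

end K68.CMDecomp
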