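import Groth.Agent.CAlg.K68.QFin
import Groth.Agent.FlatA.NagataOpen
import Groth.Agent.S2698
import Groth.Agent.Ega4A.CMFields
import Groth.Agent.Localalg.Depth2
import Mathlib.RingTheory.NoetherNormalization
import Mathlib.RingTheory.RegularLocalRing.Polynomial

/-!
# The Cohen-Macaulay locus of a finite type algebra over a field is open
-/

set_option autoImplicit false

namespace K68.CMOpen

universe u v

section

variable {R S : Type u} [CommRing R] [CommRing S] [Algebra R S]

/-- flatness of the localization, in terms of `LocalizedModule` -/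
theorem flat_localizedModule_iff (q : Ideal S) [q.IsPrime] :
    Module.Flat R (LocalizedModule q.primeCompl S) ↔ Module.Flat R (Localization.AtPrime q) := by
  have e : LocalizedModule q.primeCompl S ≃ₗ[S] Localization.AtPrime q :=
    IsLocalizedModule.iso q.primeCompl (Algebra.linearMap S (Localization.AtPrime q))
  have e' : LocalizedModule q.primeCompl S ≃ₗ[R] Localization.AtPrime q := e.restrictScalars R
  exact Module.Flat.equiv_iff e'

end

theorem isCohenMacaulayLocalRing_mvPolynomial (k : Type u) [Field k] (n : ℕ)
    (p : Ideal (MvPolynomial (Fin n) k)) [p.IsPrime] :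
    LocCoh.IsCohenMacaulayLocalRing (Localization.AtPrime p) := by
  have := Groth.Agent.Ega4A.CMFields.isCohenMacaulayRing_of_isRegularRing
    (MvPolynomial (Fin n) k)
  exact LocCoh.IsCohenMacaulayRing.isCohenMacaulayLocalRing_localization p

/-- Generic Cohen-Macaulayness of domains of finite type over a field. -/
theorem exists_open_cm (k D : Type u) [Field k] [CommRing D] [IsDomain D] [Algebra k D]
    [Algebra.FiniteType k D] :
    ∃ U : Set (PrimeSpectrum D), IsOpen U ∧ U.Nonempty ∧
      ∀ q ∈ U, LocCoh.IsCohenMacaulayLocalRing (Localization.AtPrime q.asIdeal) := by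
  obtain ⟨n, g, hg, hfin⟩ := exists_finite_inj_algHom_of_fg k D
  algebraize [g.toRingHom]
  have hfaith : FaithfulSMul (MvPolynomial (Fin n) k) D :=
    (faithfulSMul_iff_algebraMap_injective _ _).2 hg
  have : Module.Finite (MvPolynomial (Fin n) k) D := hfin
  have hN : IsNoetherianRing D := Algebra.FiniteType.isNoetherianRing k D
  have hopen := Groth.Agent.FlatA.NagataOpen.isOpen_flat_locus_of_noetherian
    (R := MvPolynomial (Fin n) k) (S := D) (M := D)
  refine ⟨_, hopen, ⟨⟨⊥, Ideal.isPrime_bot⟩, ?_⟩, ?_⟩
  · change Module.Flat _ (LocalizedModule (Ideal.primeCompl (⊥ : Ideal D)) D)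
    rw [flat_localizedModule_iff]
    have hK : IsFractionRing D (Localization.AtPrime (⊥ : Ideal D)) := by
      rw [IsFractionRing, ← Ideal.primeCompl_bot]
      infer_instance
    have hfs : FaithfulSMul (MvPolynomial (Fin n) k) (Localization.AtPrime (⊥ : Ideal D)) := by
      rw [faithfulSMul_iff_algebraMap_injective, IsScalarTower.algebraMap_eq _ D]
      exact (IsFractionRing.injective D _).comp hg
    let : Field (Localization.AtPrime (⊥ : Ideal D)) := IsFractionRing.toField D
    let : Algebra (FractionRing (MvPolynomial (Fin n) k)) (Localization.AtPrime (⊥ : Ideal D)) :=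
      FractionRing.liftAlgebra _ _
    have : IsScalarTower (MvPolynomial (Fin n) k) (FractionRing (MvPolynomial (Fin n) k))
        (Localization.AtPrime (⊥ : Ideal D)) := FractionRing.isScalarTower_liftAlgebra _ _
    have : Module.Flat (MvPolynomial (Fin n) k) (FractionRing (MvPolynomial (Fin n) k)) :=
      IsLocalization.flat _ (nonZeroDivisors (MvPolynomial (Fin n) k))
    exact Module.Flat.trans (MvPolynomial (Fin n) k) (FractionRing (MvPolynomial (Fin n) k))
      (Localization.AtPrime (⊥ : Ideal D))
  · intro q hq
    change Module.Flat _ (LocalizedModule q.asIdeal.primeCompl D) at hq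
    rw [flat_localizedModule_iff] at hq
    have := isCohenMacaulayLocalRing_mvPolynomial k n (q.asIdeal.under _)
    exact K68.QFin.isCohenMacaulay_of_flat (MvPolynomial (Fin n) k) D q.asIdeal

/-- For a Noetherian ring such that every integral quotient is generically Cohen-Macaulay, the
Cohen-Macaulay locus is open. -/
theorem isOpen_cm_of_generic (A : Type u) [CommRing A] [IsNoetherianRing A]
    (hCMU : ∀ (p : Ideal A) [p.IsPrime], ∃ U : Set (PrimeSpectrum (A ⧸ p)), IsOpen U ∧ U.Nonempty ∧
      ∀ q ∈ U, LocCoh.IsCohenMacaulayLocalRing (Localization.AtPrime q.asIdeal)) :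
    IsOpen {q : PrimeSpectrum A |
      LocCoh.IsCohenMacaulayLocalRing (Localization.AtPrime q.asIdeal)} := by
  have h := (Groth.Agent.S2698.result A hCMU A 0).1
  convert h using 1
  ext q
  have e : Localization.AtPrime q.asIdeal ≃ₗ[Localization.AtPrime q.asIdeal]
      LocalizedModule q.asIdeal.primeCompl A :=
    ((LinearEquiv.extendScalarsOfIsLocalization q.asIdeal.primeCompl
      (Localization.AtPrime q.asIdeal) (IsLocalizedModule.iso q.asIdeal.primeCompl
      (Algebra.linearMap A (Localization.AtPrime q.asIdeal)))).symm)
  simp only [Set.mem_ofPred_eq]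
  rw [← Module.supportDim_eq_of_equiv e, ← Groth.Agent.Ega4C.DepthExt.depth_congr _ e]
  constructor
  · intro hq
    rw [hq.supportDim_eq_depth]
    simp
  · intro hq
    refine ⟨le_antisymm (by simpa using hq) ?_⟩
    exact Groth.Agent.Localalg.Depth2.depth_le_supportDim _

/-- The Cohen-Macaulay locus of a finite type algebra over a field is open. -/
theorem isOpen_cm (k S : Type u) [Field k] [CommRing S] [Algebra k S]
    [Algebra.FiniteType k S] :
    IsOpen {q : PrimeSpectrum S |
      LocCoh.IsCohenMacaulayLocalRing (Localization.AtPrime q.asIdeal)} := by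
  have : IsNoetherianRing S := Algebra.FiniteType.isNoetherianRing k S
  exact isOpen_cm_of_generic S (fun p _ => exists_open_cm k (S ⧸ p))

end K68.CMOpen
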