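import Groth.Agent.Fcompl.H551.StalkRes
import Mathlib.RingTheory.Finiteness.Basic

/-!
# Finiteness of completion maps
-/

set_option autoImplicit false
universe u

namespace K68.ComplFin

open FSch Groth.Agent.Fcompl.H551.StalkRes

variable {S : Type u} [CommRing S]

theorem mk_sub_mem (I : Ideal S) (y : AdicCompletion.AdicCauchySequence I S) {m n : ℕ} (h : m ≤ n) :
    y n - y m ∈ I ^ m := by
  have hy := y.2 h
  rw [SModEq.sub_mem] at hy
  simp only [smul_eq_mul, Ideal.mul_top] at hy
  rw [← neg_sub]
  exact (I ^ m).neg_mem hy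

/-- A Cauchy sequence from a sequence with `y (n+1) - y n ∈ I ^ n`. -/
noncomputable def mkSeq (I : Ideal S) (y : ℕ → S) (h : ∀ n, y (n + 1) - y n ∈ I ^ n) :
    AdicCompletion.AdicCauchySequence I S :=
  AdicCompletion.AdicCauchySequence.mk I S y fun n => by
    rw [SModEq.comm, SModEq.sub_mem]
    simpa only [smul_eq_mul, Ideal.mul_top] using h n

@[simp] theorem mkSeq_apply (I : Ideal S) (y : ℕ → S) (h : ∀ n, y (n + 1) - y n ∈ I ^ n) (n : ℕ) :
    mkSeq I y h n = y n := rfl

/-- Ideals defining the same topology have the same completion. -/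
theorem bijective_complMap_id (I K : Ideal S) (h : I.map (RingHom.id S) ≤ K) (N : ℕ)
    (hN : K ^ N ≤ I) : Function.Bijective (complMap I K (RingHom.id S) h) := by
  have hIK : I ≤ K := by simpa using h
  have hNk : ∀ k, K ^ (N * k) ≤ I ^ k := fun k => by
    rw [pow_mul]; exact Ideal.pow_right_mono hN k
  constructor
  · rw [injective_iff_map_eq_zero]
    intro x hx
    obtain ⟨y, rfl⟩ := AdicCompletion.mk_surjective I S x
    apply AdicCompletion.ext_evalₐ
    intro k
    have h1 := congrArg (AdicCompletion.evalₐ K (N * k + k)) hx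
    rw [evalₐ_complMap, map_zero, AdicCompletion.evalₐ_mk, Ideal.quotientMap_mk,
      Ideal.Quotient.eq_zero_iff_mem] at h1
    have h2 : y (N * k + k) ∈ I ^ k :=
      hNk k (Ideal.pow_le_pow_right (Nat.le_add_right _ _) h1)
    have h3 := mk_sub_mem I y (Nat.le_add_left k (N * k))
    rw [AdicCompletion.evalₐ_mk, map_zero, Ideal.Quotient.eq_zero_iff_mem]
    have := (I ^ k).sub_mem h2 h3
    simpa using this
  · intro z
    obtain ⟨y, rfl⟩ := AdicCompletion.mk_surjective K S z
    refine ⟨AdicCompletion.mk I S (mkSeq I (fun k => y (N * k + k)) fun k => ?_), ?_⟩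
    · refine hNk k (Ideal.pow_le_pow_right (Nat.le_add_right _ k) (mk_sub_mem K y ?_))
      nlinarith
    · apply AdicCompletion.ext_evalₐ
      intro k
      rw [evalₐ_complMap, AdicCompletion.evalₐ_mk, Ideal.quotientMap_mk, AdicCompletion.evalₐ_mk,
        Ideal.Quotient.eq]
      exact mk_sub_mem K y (Nat.le_add_left _ _)

/-- If `S/IS` is finite over `R` and `K` defines the `IS`-adic topology, then the completion of `S`
along `K` is finite over the completion of `R` along `I`. -/
theorem finite_complMap {R : Type u} [CommRing R] [Algebra R S] (I : Ideal R) (K : Ideal S)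
    (h : I.map (algebraMap R S) ≤ K) (N : ℕ) (hN : K ^ N ≤ I.map (algebraMap R S))
    [hfin : Module.Finite R (S ⧸ I.map (algebraMap R S))] :
    (complMap I K (algebraMap R S) h).Finite := by
  classical
  obtain ⟨n, s, hs⟩ := Module.Finite.exists_fin (R := R) (M := S ⧸ I.map (algebraMap R S))
  choose t ht using fun i => Ideal.Quotient.mk_surjective (s i)
  -- every element of `S` is a combination of the `t i` modulo `IS`
  have h0 : ∀ x : S, ∃ a : Fin n → R, x - ∑ i, a i • t i ∈ I.map (algebraMap R S) := by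
    intro x
    have hx : Ideal.Quotient.mk (I.map (algebraMap R S)) x ∈ Submodule.span R (Set.range s) := by
      rw [hs]; trivial
    obtain ⟨a, ha⟩ := (Submodule.mem_span_range_iff_exists_fun R).mp hx
    refine ⟨a, ?_⟩
    rw [← Ideal.Quotient.eq_zero_iff_mem, map_sub, map_sum, ← ha, sub_eq_zero]
    refine Finset.sum_congr rfl fun i _ => ?_
    rw [← ht i]
    rfl
  have h1' : ∀ (k : ℕ) (x : S), x ∈ (I ^ k).map (algebraMap R S) → ∀ r : S, ∃ a : Fin n → R,
      (∀ i, a i ∈ I ^ k) ∧ r * x - ∑ i, a i • t i ∈ (I.map (algebraMap R S)) ^ (k + 1) := by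
    intro k x hx
    induction hx using Submodule.span_induction with
    | mem x hx =>
      intro r
      obtain ⟨c, hc, rfl⟩ := hx
      obtain ⟨a, ha⟩ := h0 r
      refine ⟨fun i => c * a i, fun i => Ideal.mul_mem_right _ _ hc, ?_⟩
      have : r * algebraMap R S c - ∑ i, (c * a i) • t i =
          algebraMap R S c * (r - ∑ i, a i • t i) := by
        rw [mul_sub, Finset.mul_sum, mul_comm r]
        simp only [Algebra.smul_def, map_mul, mul_assoc]
      rw [this, pow_succ, ← Ideal.map_pow]
      exact Ideal.mul_mem_mul (Ideal.mem_map_of_mem _ hc) ha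
    | zero => exact fun r => ⟨0, fun i => Ideal.zero_mem _, by simp⟩
    | add x y _ _ hx hy =>
      intro r
      obtain ⟨a, ha, ha'⟩ := hx r
      obtain ⟨b, hb, hb'⟩ := hy r
      refine ⟨a + b, fun i => Ideal.add_mem _ (ha i) (hb i), ?_⟩
      have := Ideal.add_mem _ ha' hb'
      simp only [Pi.add_apply, add_smul, Finset.sum_add_distrib, mul_add]
      rwa [add_sub_add_comm]
    | smul r' x _ hx =>
      intro r
      obtain ⟨a, ha, ha'⟩ := hx (r * r')
      exact ⟨a, ha, by rwa [smul_eq_mul, ← mul_assoc]⟩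
  have h1 : ∀ (k : ℕ) (x : S), x ∈ (I.map (algebraMap R S)) ^ k → ∃ a : Fin n → R,
      (∀ i, a i ∈ I ^ k) ∧ x - ∑ i, a i • t i ∈ (I.map (algebraMap R S)) ^ (k + 1) := by
    intro k x hx
    rw [← Ideal.map_pow] at hx
    obtain ⟨a, ha, ha'⟩ := h1' k x hx 1
    exact ⟨a, ha, by rwa [one_mul] at ha'⟩
  have h2 : ∀ z : AdicCompletion K S, ∃ a : Fin n → AdicCompletion I R,
      ∑ i, complMap I K (algebraMap R S) h (a i) * algebraMap S (AdicCompletion K S) (t i) = z := by
    intro z
    have hIK : (I.map (algebraMap R S)).map (RingHom.id S) ≤ K := by simpa using h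
    obtain ⟨w, rfl⟩ := (bijective_complMap_id (I.map (algebraMap R S)) K hIK N hN).2 z
    obtain ⟨y, rfl⟩ := AdicCompletion.mk_surjective _ S w
    -- approximations
    have h3 : ∀ (k : ℕ) (b : Fin n → R), ∃ b' : Fin n → R, (∀ i, b' i - b i ∈ I ^ k) ∧
        (y k - ∑ i, b i • t i ∈ (I.map (algebraMap R S)) ^ k →
          y (k + 1) - ∑ i, b' i • t i ∈ (I.map (algebraMap R S)) ^ (k + 1)) := by
      intro k b
      by_cases hb : y k - ∑ i, b i • t i ∈ (I.map (algebraMap R S)) ^ k
      · have h4 : y (k + 1) - ∑ i, b i • t i ∈ (I.map (algebraMap R S)) ^ k := by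
          have := Ideal.add_mem _ (mk_sub_mem _ y (Nat.le_succ k)) hb
          simpa using this
        obtain ⟨a, ha, ha'⟩ := h1 k _ h4
        refine ⟨b + a, fun i => by simpa using ha i, fun _ => ?_⟩
        simpa only [Pi.add_apply, add_smul, Finset.sum_add_distrib, sub_add_eq_sub_sub] using ha'
      · exact ⟨b, fun i => by simp, fun h => absurd h hb⟩
    choose F hF hF' using h3
    let b : ℕ → Fin n → R := fun k => Nat.rec 0 (fun k b => F k b) k
    have hb : ∀ k, b (k + 1) = F k (b k) := fun k => rfl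
    have hb1 : ∀ k, y k - ∑ i, b k i • t i ∈ (I.map (algebraMap R S)) ^ k := by
      intro k
      induction k with
      | zero => simp
      | succ k ih => rw [hb]; exact hF' k _ ih
    refine ⟨fun i => AdicCompletion.mk I R (mkSeq I (fun k => b k i) fun k => by
      simp only [hb]; exact hF k _ i), ?_⟩
    apply AdicCompletion.ext_evalₐ
    intro k
    rw [map_sum, evalₐ_complMap, AdicCompletion.evalₐ_mk, Ideal.quotientMap_mk, RingHom.id_apply]
    simp only [map_mul, evalₐ_complMap, AdicCompletion.evalₐ_mk, Ideal.quotientMap_mk,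
      AlgHom.commutes, mkSeq_apply]
    rw [Ideal.Quotient.algebraMap_eq]
    simp only [← map_mul, ← map_sum]
    rw [eq_comm, Ideal.Quotient.eq]
    have := Ideal.pow_right_mono h k (hb1 k)
    simpa only [Algebra.smul_def] using this
  let := (complMap I K (algebraMap R S) h).toAlgebra
  refine ⟨⟨(Finset.univ.image fun i => algebraMap S (AdicCompletion K S) (t i)), ?_⟩⟩
  rw [eq_top_iff]
  intro z _
  obtain ⟨a, ha⟩ := h2 z
  rw [← ha]
  refine Submodule.sum_mem _ fun i _ => ?_
  have : complMap I K (algebraMap R S) h (a i) * algebraMap S (AdicCompletion K S) (t i) =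
    a i • algebraMap S (AdicCompletion K S) (t i) := rfl
  rw [this]
  exact Submodule.smul_mem _ _ (Submodule.subset_span (by simp))

end K68.ComplFin
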