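import Groth.Agent.Flat2A.CompletedProj

/-!
# Completed sections which are linear over the completed ring, and exactness of completion for flat cokernel
-/

set_option autoImplicit false
universe u

namespace K68.ComplSplit

open TensorProduct

variable {R : Type u} [CommRing R] (I : Ideal R) {M : Type u} [AddCommGroup M] [Module R M]

theorem smul_val {L : Type*} [AddCommGroup L] [Module R L] (n : ℕ) (a : AdicCompletion I R) (r : R)
    (hr : Submodule.Quotient.mk r = a.val n) (y : AdicCompletion I L) :
    (a • y).val n = (r • y).val n := by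
  rw [AdicCompletion.smul_eval, ← hr, AdicCompletion.val_smul_apply]
  rfl

/-- A levelwise `R`-linear map of completions is linear over the completed ring. -/
theorem smul_of_levelwise {N : Type*} [AddCommGroup N] [Module R N]
    (σ : AdicCompletion I M →ₗ[R] AdicCompletion I N)
    (hσ : ∀ (n : ℕ) (x : AdicCompletion I M), x.val n = 0 → (σ x).val n = 0)
    (a : AdicCompletion I R) (x : AdicCompletion I M) : σ (a • x) = a • σ x := by
  ext n
  obtain ⟨r, hr⟩ := Submodule.Quotient.mk_surjective _ (a.val n)
  have h2 := hσ n (a • x - r • x) (by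
    rw [AdicCompletion.val_sub_apply, smul_val I n a r hr, sub_self])
  rw [map_sub, LinearMap.map_smul σ r x, AdicCompletion.val_sub_apply, sub_eq_zero] at h2
  rw [h2, smul_val I n a r hr]

/-- Extending a levelwise linear map of completions to scalars in the completed ring. -/
noncomputable def extend {N : Type*} [AddCommGroup N] [Module R N]
    (σ : AdicCompletion I M →ₗ[R] AdicCompletion I N)
    (hσ : ∀ (n : ℕ) (x : AdicCompletion I M), x.val n = 0 → (σ x).val n = 0) :
    AdicCompletion I M →ₗ[AdicCompletion I R] AdicCompletion I N where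
  toFun := σ
  map_add' := σ.map_add
  map_smul' := smul_of_levelwise I σ hσ

/-- The completion of `M` is a retract of the completion of `F`, over the completed ring. -/
theorem exists_section [Module.Flat R M] [Module.Projective (R ⧸ I) (M ⧸ (I • ⊤ : Submodule R M))]
    {F : Type u} [AddCommGroup F] [Module R F] (π : F →ₗ[R] M) (hπ : Function.Surjective π) :
    ∃ σ : AdicCompletion I M →ₗ[AdicCompletion I R] AdicCompletion I F,
      AdicCompletion.map I π ∘ₗ σ = LinearMap.id := by
  classical
  let T : ℕ → Type u := fun n => {t : M →ₗ[R] F ⧸ (I ^ n • ⊤ : Submodule R F) //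
    (LinearMap.reduceModIdeal (I ^ n) π).restrictScalars R ∘ₗ t = Submodule.mkQ _}
  have hsub : Subsingleton (M ⧸ (I ^ 0 • ⊤ : Submodule R M)) := by
    rw [pow_zero, Ideal.one_eq_top, Submodule.top_smul]
    infer_instance
  let t0 : T 0 := ⟨0, by ext m; exact Subsingleton.elim _ _⟩
  choose st hst1 hst2 using fun (n : ℕ) (t : T n) =>
    Groth.Agent.Flat2A.CompletedProj.step I π hπ n t.1 t.2
  let t : ∀ n, T n := fun n => Nat.rec t0 (fun n t => ⟨st n t, hst1 n t⟩) n
  have ht : ∀ n, AdicCompletion.transitionMap I F (Nat.le_succ n) ∘ₗ (t (n + 1)).1 = (t n).1 :=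
    fun n => hst2 n (t n)
  have ht0 : ∀ n, (I ^ n • ⊤ : Submodule R M) ≤ LinearMap.ker (t n).1 := by
    intro n x hx
    refine Submodule.smul_induction_on hx ?_ ?_
    · intro r hr y _
      rw [LinearMap.mem_ker, map_smul]
      obtain ⟨z, hz⟩ := Submodule.Quotient.mk_surjective _ ((t n).1 y)
      rw [← hz, ← Submodule.Quotient.mk_smul, Submodule.Quotient.mk_eq_zero]
      exact Submodule.smul_mem_smul hr Submodule.mem_top
    · intro y z hy hz
      exact Submodule.add_mem _ hy hz
  let tb : ∀ n, (M ⧸ (I ^ n • ⊤ : Submodule R M)) →ₗ[R] (F ⧸ (I ^ n • ⊤ : Submodule R F)) := fun n =>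
    (I ^ n • ⊤ : Submodule R M).liftQ (t n).1 (ht0 n)
  have htb : ∀ n m, tb n (Submodule.Quotient.mk m) = (t n).1 m := fun n m => rfl
  have hcomp : ∀ {m n : ℕ} (hle : m ≤ n) (x : M),
      AdicCompletion.transitionMap I F hle ((t n).1 x) = (t m).1 x := by
    intro m n hle x
    induction n, hle using Nat.le_induction with
    | base =>
      obtain ⟨z, hz⟩ := Submodule.Quotient.mk_surjective _ ((t m).1 x)
      rw [← hz]; rfl
    | succ n hmn ih =>
      rw [← ih, ← LinearMap.congr_fun (ht n) x, LinearMap.comp_apply]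
      obtain ⟨z, hz⟩ := Submodule.Quotient.mk_surjective _ ((t (n + 1)).1 x)
      rw [← hz]; rfl
  let σ : AdicCompletion I M →ₗ[R] AdicCompletion I F :=
    AdicCompletion.lift I (fun n => tb n ∘ₗ AdicCompletion.eval I M n) (by
      intro m n hle
      apply LinearMap.ext
      intro x
      simp only [LinearMap.comp_apply, AdicCompletion.eval_apply]
      obtain ⟨y, hy⟩ := Submodule.Quotient.mk_surjective _ (x.val n)
      have h1 : x.val m = Submodule.Quotient.mk y := by
        rw [← x.property hle]
        show AdicCompletion.transitionMap I M hle (x.val n) = _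
        rw [← hy]; rfl
      rw [h1, ← hy, htb, htb, hcomp])
  have hσ : ∀ (n : ℕ) (x : AdicCompletion I M), (σ x).val n = tb n (x.val n) := fun _ _ => rfl
  refine ⟨extend I σ fun n x hx => by rw [hσ, hx, map_zero], ?_⟩
  apply LinearMap.ext
  intro x
  ext n
  obtain ⟨y, hy⟩ := Submodule.Quotient.mk_surjective _ (x.val n)
  rw [LinearMap.comp_apply, AdicCompletion.map_val_apply, LinearMap.id_apply]
  have h1 : (extend I σ (fun n x hx => by rw [hσ, hx, map_zero]) x).val n = tb n (x.val n) := rfl
  rw [h1, ← hy, htb]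
  exact LinearMap.congr_fun (t n).2 y

variable {K P : Type u} [AddCommGroup K] [Module R K] [AddCommGroup P] [Module R P]

/-- `JP ∩ K = JK` when `P/K` is flat. -/
theorem mem_smul_top [Module.Flat R M] (J : Ideal R) (f : K →ₗ[R] P) (g : P →ₗ[R] M)
    (hf : Function.Injective f) (hg : Function.Surjective g) (hfg : Function.Exact f g) (k : K)
    (hk : f k ∈ (J • ⊤ : Submodule R P)) : k ∈ (J • ⊤ : Submodule R K) := by
  have h1 := LinearMap.lTensor_injective_of_exact_of_flat g hg f hf hfg (R ⧸ J)
  have h2 : ∀ (L : Type u) [AddCommGroup L] [Module R L] (x : L),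
      (1 : R ⧸ J) ⊗ₜ[R] x = 0 ↔ x ∈ (J • ⊤ : Submodule R L) := by
    intro L _ _ x
    rw [← (TensorProduct.quotTensorEquivQuotSMul L J).map_eq_zero_iff]
    have : (TensorProduct.quotTensorEquivQuotSMul L J) ((1 : R ⧸ J) ⊗ₜ[R] x) =
        Submodule.Quotient.mk x := by
      simpa using TensorProduct.quotTensorEquivQuotSMul_mk_tmul (M := L) J (1 : R) x
    rw [this, Submodule.Quotient.mk_eq_zero]
  rw [← h2] at hk ⊢
  apply h1
  rw [LinearMap.lTensor_tmul, hk, map_zero]

theorem completion_exact [Module.Flat R M] (f : K →ₗ[R] P) (g : P →ₗ[R] M)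
    (hf : Function.Injective f) (hg : Function.Surjective g) (hfg : Function.Exact f g) :
    Function.Injective (AdicCompletion.map I f) ∧
      Function.Exact (AdicCompletion.map I f) (AdicCompletion.map I g) := by
  have hinj : ∀ (n : ℕ) (k : K), (Submodule.Quotient.mk (f k) : P ⧸ (I ^ n • ⊤ : Submodule R P)) = 0 →
      (Submodule.Quotient.mk k : K ⧸ (I ^ n • ⊤ : Submodule R K)) = 0 := by
    intro n k h
    rw [Submodule.Quotient.mk_eq_zero] at h ⊢
    exact mem_smul_top _ f g hf hg hfg k h
  refine ⟨?_, ?_⟩
  · rw [injective_iff_map_eq_zero]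
    intro x hx
    ext n
    obtain ⟨y, hy⟩ := Submodule.Quotient.mk_surjective _ (x.val n)
    have h1 : (AdicCompletion.map I f x).val n = 0 := by rw [hx]; rfl
    rw [AdicCompletion.map_val_apply, ← hy] at h1
    rw [← hy]
    exact hinj n y h1
  · intro y
    constructor
    · intro hy
      have h1 : ∀ n, ∃ k : K, y.val n = Submodule.Quotient.mk (f k) := by
        intro n
        obtain ⟨p, hp⟩ := Submodule.Quotient.mk_surjective _ (y.val n)
        have h2 : (AdicCompletion.map I g y).val n = 0 := by rw [hy]; rfl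
        rw [AdicCompletion.map_val_apply, ← hp] at h2
        have h3 : g p ∈ (I ^ n • ⊤ : Submodule R M) := (Submodule.Quotient.mk_eq_zero _).mp h2
        have h4 : g p ∈ Submodule.map g (I ^ n • ⊤ : Submodule R P) := by
          rw [Submodule.map_smul'', Submodule.map_top, LinearMap.range_eq_top.2 hg]
          exact h3
        obtain ⟨z, hz, hzy⟩ := h4
        obtain ⟨k, hk⟩ := (hfg (p - z)).mp (by rw [map_sub, hzy, sub_self])
        refine ⟨k, ?_⟩
        rw [← hp, hk, Submodule.Quotient.eq]
        simpa using hz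
      choose k hk using h1
      have h5 : ∀ {m n : ℕ} (hle : m ≤ n), (Submodule.Quotient.mk (k n) :
          K ⧸ (I ^ m • ⊤ : Submodule R K)) = Submodule.Quotient.mk (k m) := by
        intro m n hle
        rw [← sub_eq_zero, ← Submodule.Quotient.mk_sub]
        apply hinj m
        rw [map_sub, Submodule.Quotient.mk_sub, sub_eq_zero, ← hk m, ← y.property hle, hk n]
        rfl
      let x : AdicCompletion I K := ⟨fun n => Submodule.Quotient.mk (k n), fun {m n} hle => h5 hle⟩
      have hx : ∀ n, x.val n = Submodule.Quotient.mk (k n) := fun n => rfl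
      refine ⟨x, ?_⟩
      ext n
      rw [AdicCompletion.map_val_apply, hk n, hx n]
      rfl
    · rintro ⟨x, rfl⟩
      ext n
      rw [AdicCompletion.map_val_apply, AdicCompletion.map_val_apply]
      obtain ⟨k, hk⟩ := Submodule.Quotient.mk_surjective _ (x.val n)
      rw [← hk]
      show (Submodule.Quotient.mk (g (f k)) : M ⧸ (I ^ n • ⊤ : Submodule R M)) = 0
      rw [hfg.apply_apply_eq_zero, Submodule.Quotient.mk_zero]

end K68.ComplSplit
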