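import Groth.Agent.CAlg.K68.TwoTerm
import Mathlib.RingTheory.Extension.Cotangent.Basic
import Mathlib.RingTheory.Kaehler.Polynomial

/-!
# Comparison of the conormal modules of two presentations
-/

set_option autoImplicit false

namespace K68.CotPres

universe u v

open Algebra Algebra.Extension

variable {R S : Type u} [CommRing R] [CommRing S] [Algebra R S]

/-- Two extensions with maps both ways: `I/I² ⊕ (S ⊗ Ω_Q) ≅ J/J² ⊕ (S ⊗ Ω_P)`. -/
theorem nonempty_cotangent_prod (P Q : Algebra.Extension.{u} R S) (f : P.Hom Q) (g : Q.Hom P) :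
    Nonempty ((P.Cotangent × Q.CotangentSpace) ≃ₗ[S] (Q.Cotangent × P.CotangentSpace)) := by
  refine K68.TwoTerm.nonempty_prod_linearEquiv P.cotangentComplex Q.cotangentComplex
    (Cotangent.map f) (CotangentSpace.map f) (Cotangent.map g) (CotangentSpace.map g)
    ?_ ?_ ((Hom.id P).sub (g.comp f)) ?_ ?_ ((Hom.id Q).sub (f.comp g)) ?_ ?_
  · ext x
    exact (CotangentSpace.map_cotangentComplex f x).symm
  · ext x
    exact (CotangentSpace.map_cotangentComplex g x).symm
  · have h1 := Cotangent.map_sub_map (Hom.id P) (g.comp f)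
    rw [Cotangent.map_id, Cotangent.map_comp] at h1
    exact h1
  · have h1 := CotangentSpace.map_sub_map (Hom.id P) (g.comp f)
    rw [CotangentSpace.map_id, CotangentSpace.map_comp] at h1
    exact h1
  · have h1 := Cotangent.map_sub_map (Hom.id Q) (f.comp g)
    rw [Cotangent.map_id, Cotangent.map_comp] at h1
    exact h1
  · have h1 := CotangentSpace.map_sub_map (Hom.id Q) (f.comp g)
    rw [CotangentSpace.map_id, CotangentSpace.map_comp] at h1
    exact h1

/-- A map of extensions out of a polynomial presentation. -/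
noncomputable def homOfPoly {n : ℕ} (α : MvPolynomial (Fin n) R →ₐ[R] S)
    (hα : Function.Surjective α) (Q : Algebra.Extension.{u} R S) :
    (Algebra.Extension.ofSurjective α hα).Hom Q where
  toRingHom := (MvPolynomial.aeval (fun i => Q.σ (α (MvPolynomial.X i))) :
    MvPolynomial (Fin n) R →ₐ[R] Q.Ring).toRingHom
  toRingHom_algebraMap x := AlgHom.commutes (MvPolynomial.aeval _) x
  algebraMap_toRingHom x := by
    have h : (IsScalarTower.toAlgHom R Q.Ring S).comp
        (MvPolynomial.aeval (fun i => Q.σ (α (MvPolynomial.X i))) :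
          MvPolynomial (Fin n) R →ₐ[R] Q.Ring) = α := by
      refine MvPolynomial.algHom_ext (fun i => ?_)
      rw [AlgHom.comp_apply, MvPolynomial.aeval_X, IsScalarTower.coe_toAlgHom',
        Algebra.Extension.algebraMap_σ]
    exact AlgHom.congr_fun h x

set_option backward.isDefEq.respectTransparency false in
/-- The cotangent space of a polynomial presentation is free. -/
noncomputable def cotangentSpaceEquiv {n : ℕ} (α : MvPolynomial (Fin n) R →ₐ[R] S)
    (hα : Function.Surjective α) :
    (Algebra.Extension.ofSurjective α hα).CotangentSpace ≃ₗ[S] (Fin n → S) := by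
  let : Algebra (MvPolynomial (Fin n) R) S := α.toAlgebra
  exact ((KaehlerDifferential.mvPolynomialBasis R (Fin n)).baseChange S).equivFun

theorem nonempty_cotangent_prod_free {n m : ℕ} (α : MvPolynomial (Fin n) R →ₐ[R] S)
    (hα : Function.Surjective α) (β : MvPolynomial (Fin m) R →ₐ[R] S)
    (hβ : Function.Surjective β) :
    Nonempty (((Algebra.Extension.ofSurjective α hα).Cotangent × (Fin m → S)) ≃ₗ[S]
      ((Algebra.Extension.ofSurjective β hβ).Cotangent × (Fin n → S))) := by
  obtain ⟨e⟩ := nonempty_cotangent_prod (Algebra.Extension.ofSurjective α hα)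
    (Algebra.Extension.ofSurjective β hβ) (homOfPoly α hα _) (homOfPoly β hβ _)
  exact ⟨((LinearEquiv.refl S _).prodCongr (cotangentSpaceEquiv β hβ).symm).trans
    (e.trans ((LinearEquiv.refl S _).prodCongr (cotangentSpaceEquiv α hα)))⟩

end K68.CotPres
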