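import Mathlib.RingTheory.Localization.FractionRing
import Mathlib.RingTheory.Localization.AsSubring
import Mathlib.RingTheory.Valuation.LocalSubring
import Mathlib.RingTheory.Ideal.KrullsHeightTheorem
import Mathlib.RingTheory.FiniteType
import Mathlib.RingTheory.EssentialFiniteness
import Mathlib.RingTheory.Localization.Submodule

/-!
# A Noetherian local domain is dominated by a one-dimensional Noetherian local domain essentially of
finite type over it
-/

set_option autoImplicit false

open IsLocalRing

namespace K68.DomDimOne

universe u v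

variable {R : Type u} [CommRing R] [IsNoetherianRing R] [IsLocalRing R]
  {K : Type v} [Field K] [Algebra R K] [IsFractionRing R K]

variable (R K) in
theorem exists_dominating (hR : ¬ IsField R) :
    ∃ R' : Subalgebra R K, ∃ _ : IsLocalRing R',
      IsNoetherianRing R' ∧ ringKrullDim R' = 1 ∧ IsLocalHom (algebraMap R R') ∧
        Algebra.EssFiniteType R R' := by
  classical
  have hinj : Function.Injective (algebraMap R K) := FaithfulSMul.algebraMap_injective R K
  obtain ⟨V₀, h₀, hloc⟩ := IsLocalRing.exists_factor_valuationRing (algebraMap R K)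
  have hV₀ : ∀ r, algebraMap R K r ∈ V₀.nonunits ↔ r ∈ maximalIdeal R := by
    intro r
    rw [ValuationSubring.mem_nonunits_iff_exists_mem_maximalIdeal]
    have h3 : (⟨algebraMap R K r, h₀ r⟩ : V₀) ∈ maximalIdeal V₀ ↔ r ∈ maximalIdeal R := by
      rw [mem_maximalIdeal, mem_maximalIdeal, mem_nonunits_iff, mem_nonunits_iff, not_iff_not]
      exact isUnit_map_iff ((algebraMap R K).codRestrict V₀.toSubring h₀) r
    exact ⟨fun ⟨_, h⟩ => h3.1 h, fun h => ⟨h₀ r, h3.2 h⟩⟩
  have hm : maximalIdeal R ≠ ⊥ := fun h => hR (IsLocalRing.isField_iff_maximalIdeal_eq.2 h)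
  obtain ⟨s, hs⟩ := (IsNoetherian.noetherian (maximalIdeal R) : (maximalIdeal R).FG)
  have hsne : s.Nonempty := by
    rw [Finset.nonempty_iff_ne_empty]
    rintro rfl
    exact hm (by rw [← hs]; simp)
  obtain ⟨f, hfs, hf⟩ := s.exists_max_image (fun x => V₀.valuation (algebraMap R K x)) hsne
  have hfm : f ∈ maximalIdeal R := by
    rw [← hs]
    exact Submodule.subset_span hfs
  have hfV₀ : algebraMap R K f ∈ V₀.nonunits := (hV₀ f).2 hfm
  have hf0 : algebraMap R K f ≠ 0 := by
    intro h0
    apply hm
    rw [← hs, Ideal.span_eq_bot]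
    intro g hg
    have := hf g hg
    rw [h0, map_zero, le_zero_iff, map_eq_zero] at this
    exact hinj (this.trans (map_zero _).symm)
  -- the affine blow-up algebra
  let t : Finset K := s.image (fun g : R => algebraMap R K g / algebraMap R K f)
  let B : Subalgebra R K := Algebra.adjoin R (t : Set K)
  have hBfg : B.FG := ⟨t, rfl⟩
  have : Algebra.FiniteType R B := B.fg_iff_finiteType.1 hBfg
  have hBN : IsNoetherianRing B := Algebra.FiniteType.isNoetherianRing R B
  have hBV₀ : B.toSubring ≤ V₀.toSubring := by
    let V₀' : Subalgebra R K :=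
      { V₀.toSubring with
        algebraMap_mem' := fun r => h₀ r }
    have : B ≤ V₀' := by
      apply Algebra.adjoin_le
      intro x hx
      rw [Finset.mem_coe, Finset.mem_image] at hx
      obtain ⟨g, hg, rfl⟩ := hx
      change _ ∈ V₀
      rw [← V₀.valuation_le_one_iff, map_div₀]
      exact div_le_one_of_le₀ (hf g hg) zero_le
    exact this
  let fB : B := algebraMap R B f
  have hfBval : (fB : K) = algebraMap R K f := rfl
  have hfB : Ideal.span {fB} ≠ ⊤ := by
    rw [Ne, Ideal.span_singleton_eq_top]
    intro h
    have h1 : IsUnit (Subring.inclusion hBV₀ fB) := h.map (Subring.inclusion hBV₀)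
    rw [ValuationSubring.mem_nonunits_iff_exists_mem_maximalIdeal] at hfV₀
    obtain ⟨h2, h3⟩ := hfV₀
    exact h3 h1
  obtain ⟨M, hM, hfM⟩ := Ideal.exists_le_maximal _ hfB
  obtain ⟨p, hp, hpM⟩ := Ideal.exists_minimalPrimes_le hfM
  have hpp : p.IsPrime := hp.1.1
  have hfp : fB ∈ p := hp.1.2 (Ideal.subset_span rfl)
  have hht : p.height ≤ 1 :=
    Ideal.height_le_one_of_isPrincipal_of_mem_minimalPrimes (Ideal.span {fB}) p hp
  have hp0 : p ≠ ⊥ := by
    rintro rfl
    exact hf0 (congrArg Subtype.val (show fB = 0 from hfp))
  have hht' : p.height = 1 := by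
    refine le_antisymm hht ?_
    rw [Order.one_le_iff_pos, pos_iff_ne_zero]
    intro h0
    rw [Ideal.height_eq_zero_iff, IsDomain.minimalPrimes_eq_singleton_bot] at h0
    exact hp0 h0
  -- every element of the maximal ideal of `R` lies in `p`
  have hmp : maximalIdeal R ≤ p.comap (algebraMap R B) := by
    rw [← hs, Ideal.span_le]
    intro g hg
    have hgf : algebraMap R K g / algebraMap R K f ∈ B := Algebra.subset_adjoin (by
      rw [Finset.mem_coe, Finset.mem_image]
      exact ⟨g, hg, rfl⟩)
    have e : algebraMap R B g = fB * (⟨algebraMap R K g / algebraMap R K f, hgf⟩ : B) := by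
      apply Subtype.ext
      change algebraMap R K g = algebraMap R K f * (algebraMap R K g / algebraMap R K f)
      field_simp
    change algebraMap R B g ∈ p
    rw [e]
    exact p.mul_mem_right _ hfp
  have hfrac : IsFractionRing B K := by
    refine IsFractionRing.of_field B K ?_
    intro z
    obtain ⟨x, y, hy, rfl⟩ := IsFractionRing.div_surjective (A := R) z
    exact ⟨algebraMap R B x, algebraMap R B y, rfl⟩
  let T : Subalgebra B K := Localization.subalgebra.ofField K p.primeCompl
    p.primeCompl_le_nonZeroDivisors
  have hT : IsLocalization.AtPrime T p :=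
    Localization.subalgebra.isLocalization_ofField K p.primeCompl
      p.primeCompl_le_nonZeroDivisors
  have hTloc : IsLocalRing T := IsLocalization.AtPrime.isLocalRing T p
  have hTN : IsNoetherianRing T := IsLocalization.isNoetherianRing p.primeCompl T hBN
  have hTdim : ringKrullDim T = 1 := by
    rw [IsLocalization.AtPrime.ringKrullDim_eq_height p T, hht']
    rfl
  have : IsScalarTower R B T := IsScalarTower.of_algebraMap_eq fun _ => rfl
  have hess : Algebra.EssFiniteType R T := by
    have : Algebra.EssFiniteType B T := Algebra.EssFiniteType.of_isLocalization T p.primeCompl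
    exact Algebra.EssFiniteType.comp R B T
  have hlocal : IsLocalHom (algebraMap R T) := by
    constructor
    intro r hr
    by_contra hcon
    have h1 : r ∈ maximalIdeal R := hcon
    have h2 : algebraMap R B r ∈ p := hmp h1
    have h3 := (IsLocalization.AtPrime.to_map_mem_maximal_iff T p (algebraMap R B r)).2 h2
    exact h3 hr
  exact ⟨T.restrictScalars R, hTloc, hTN, hTdim, hlocal, hess⟩

end K68.DomDimOne
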