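import Groth.Agent.CAlg.K68.QFin
import Groth.Agent.CAlg.K68.Dim
import Groth.Agent.CalgC.LocalDim
import Groth.Agent.Ega41.DimFlat
import Groth.Agent.S2082
import Groth.Agent.Ega4A.CMFields
import Mathlib.RingTheory.RegularLocalRing.Polynomial

/-!
# Flatness of quasi-finite algebras over polynomial rings over a field
-/

set_option autoImplicit false

namespace K68.FlatCM

universe u v

open IsLocalRing

section Dim

variable (A B : Type u) [CommRing A] [CommRing B] [Algebra A B] [Algebra.QuasiFinite A B]
  (q : Ideal B) [q.IsPrime]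

/-- the residue extension of a quasi-finite algebra is algebraic -/
theorem ringKrullDim_quotient_eq (k : Type u) [Field k] [Algebra k A] [Algebra k B]
    [IsScalarTower k A B] [Algebra.FiniteType k A] [Algebra.FiniteType k B] :
    ringKrullDim (B ⧸ q) = ringKrullDim (A ⧸ q.under A) := by
  rw [Groth.Agent.CalgC.DimFT.ringKrullDim_eq_trdeg k, Groth.Agent.CalgC.DimFT.ringKrullDim_eq_trdeg k]
  rw [← Groth.Agent.CalgC.LocalDim.trdeg_residueField_eq,
    ← Groth.Agent.CalgC.LocalDim.trdeg_residueField_eq]
  let := Localization.AtPrime.algebraOfLiesOver (q.under A) q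
  have h1 := trdeg_add_eq (R := k) (S := (q.under A).ResidueField) (A := q.ResidueField)
  rw [trdeg_eq_zero (R := (q.under A).ResidueField), add_zero] at h1
  rw [h1]

end Dim

theorem ringKrullDim_fibre_eq_zero (A : Type u) (B : Type v) [CommRing A] [CommRing B]
    [Algebra A B] [IsLocalRing A] [IsLocalRing B] [IsLocalHom (algebraMap A B)]
    [Algebra.QuasiFinite A B] :
    ringKrullDim (B ⧸ (maximalIdeal A).map (algebraMap A B)) = 0 := by
  have := K68.QFin.isArtinianRing_fibre A B
  have hne : (maximalIdeal A).map (algebraMap A B) ≠ ⊤ :=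
    (map_maximalIdeal_lt_top (algebraMap A B)).ne
  have : Nontrivial (B ⧸ (maximalIdeal A).map (algebraMap A B)) :=
    Ideal.Quotient.nontrivial_iff.mpr hne
  exact ringKrullDimZero_iff_ringKrullDim_eq_zero.1 inferInstance

theorem flat_iff (k S : Type u) [Field k] [CommRing S]
    [Algebra k S] [Algebra.FiniteType k S] (d : ℕ) [Algebra (MvPolynomial (Fin d) k) S]
    [IsScalarTower k (MvPolynomial (Fin d) k) S] [Algebra.QuasiFinite (MvPolynomial (Fin d) k) S]
    (q : Ideal S) [q.IsPrime] :
    Module.Flat (MvPolynomial (Fin d) k) (Localization.AtPrime q) ↔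
      (LocCoh.IsCohenMacaulayLocalRing (Localization.AtPrime q) ∧
        FlatMor.localDim (PrimeSpectrum S) ⟨q, inferInstance⟩ = (d : WithBot ℕ∞)) := by
  set P := MvPolynomial (Fin d) k with hP
  have hSN : IsNoetherianRing S := Algebra.FiniteType.isNoetherianRing k S
  let p' : Ideal P := q.under P
  let : Algebra (Localization.AtPrime p') (Localization.AtPrime q) :=
    (Localization.localRingHom p' q (algebraMap P S) rfl).toAlgebra
  have : IsScalarTower P (Localization.AtPrime p') (Localization.AtPrime q) :=
    IsScalarTower.of_algebraMap_eq fun x =>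
      (Localization.localRingHom_to_map p' q (algebraMap P S) rfl x).symm
  have : IsLocalHom (algebraMap (Localization.AtPrime p') (Localization.AtPrime q)) :=
    Localization.isLocalHom_localRingHom p' q (algebraMap P S) rfl
  have hflat : Module.Flat (Localization.AtPrime p') (Localization.AtPrime q) ↔
      Module.Flat P (Localization.AtPrime q) :=
    Module.flat_iff_of_isLocalization (Localization.AtPrime p') p'.primeCompl _
  have : Algebra.QuasiFinite (Localization.AtPrime p') (Localization.AtPrime q) :=
    Algebra.QuasiFinite.of_restrictScalars P _ _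
  have h0 := ringKrullDim_fibre_eq_zero (Localization.AtPrime p') (Localization.AtPrime q)
  have hreg : IsRegularLocalRing (Localization.AtPrime p') := inferInstance
  have e1 := IsLocalization.AtPrime.ringKrullDim_eq_height p' (Localization.AtPrime p')
  have e2 := IsLocalization.AtPrime.ringKrullDim_eq_height q (Localization.AtPrime q)
  have e3 := Groth.Agent.CalgC.DimFT.height_add_ringKrullDim_quotient k P p'
  rw [Groth.Agent.CalgC.DimFT.ringKrullDim_mvPolynomial_fin] at e3
  have e4 := Groth.Agent.CalgC.LocalDim.localDim_eq_height_add k q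
  rw [ringKrullDim_quotient_eq P S q k] at e4
  rw [e4, ← hflat]
  constructor
  · intro hfl
    have hcm : LocCoh.IsCohenMacaulayLocalRing (Localization.AtPrime q) := by
      have := hflat.1 hfl
      have hcm' : LocCoh.IsCohenMacaulayLocalRing (Localization.AtPrime p') := by
        have := Groth.Agent.Ega4A.CMFields.isCohenMacaulayRing_of_isRegularRing P
        exact LocCoh.IsCohenMacaulayRing.isCohenMacaulayLocalRing_localization p'
      exact K68.QFin.isCohenMacaulay_of_flat P S q
    refine ⟨hcm, ?_⟩
    have h1 := Groth.Agent.Ega41.DimFlat.ringKrullDim_eq_add_of_flat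
      (A := Localization.AtPrime p') (B := Localization.AtPrime q)
    rw [h0, add_zero, e1, e2] at h1
    rw [h1]
    exact e3
  · rintro ⟨hcm, hdim⟩
    apply Groth.Agent.S2082.result
    rw [h0, add_zero, e1, e2]
    rw [← hdim] at e3
    have : Nontrivial (P ⧸ p') := Ideal.Quotient.nontrivial_iff.mpr (Ideal.IsPrime.ne_top inferInstance)
    obtain ⟨n, hn, -⟩ := Groth.Agent.CalgC.DimFT.exists_dim k (P ⧸ p')
    change ((p'.height : ℕ∞) : WithBot ℕ∞) + ringKrullDim (P ⧸ p') =
      ((q.height : ℕ∞) : WithBot ℕ∞) + ringKrullDim (P ⧸ p') at e3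
    rw [hn] at e3
    refine le_antisymm ?_ ?_
    · exact ENat.WithBot.add_le_add_natCast_right_iff.mp e3.ge
    · exact ENat.WithBot.add_le_add_natCast_right_iff.mp e3.le

end K68.FlatCM
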