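import Groth.Agent.CAlg.K68.GroebRed
import Mathlib.Data.Finsupp.MonomialOrder
import Mathlib.Algebra.Module.FinitePresentation
import Mathlib.RingTheory.Localization.Away.Basic
import Mathlib.Algebra.Module.LocalizedModule.Submodule
import Mathlib.Algebra.Module.LocalizedModule.Away
import Mathlib.RingTheory.RingHom.FinitePresentation
import Mathlib.LinearAlgebra.Basis.Basic
import Mathlib.RingTheory.Finiteness.Prod

/-!
# Generic freeness over a reduced ring

`FreeAway R M f`, `FPAway P M f`: `M` becomes free / finitely presented after inverting `f`, in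
element-wise form.  Over a reduced ring every `g ≠ 0` has a nonzero multiple `f` with these properties
for a finite module over a polynomial ring.
-/

set_option autoImplicit false
universe u

namespace K68.GenFreeRed

open MvPolynomial

/-- `M` becomes free after inverting `f`. -/
def FreeAway (R : Type u) (M : Type u) [CommRing R] [AddCommGroup M] [Module R M] (f : R) : Prop :=
  ∃ (ι : Type u) (b : ι → M),
    (∀ l : ι →₀ R, Finsupp.linearCombination R b l = 0 → ∃ k : ℕ, f ^ k • l = 0) ∧
    ∀ m : M, ∃ k : ℕ, f ^ k • m ∈ Submodule.span R (Set.range b)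

/-- `M` becomes finitely presented after inverting `f`. -/
def FPAway (P : Type u) (M : Type u) [CommRing P] [AddCommGroup M] [Module P M] (f : P) : Prop :=
  ∃ (F : Type u) (_ : AddCommGroup F) (_ : Module P F) (π : F →ₗ[P] M) (K₀ : Submodule P F),
    Module.Finite P F ∧ Module.Free P F ∧ Function.Surjective π ∧ K₀ ≤ LinearMap.ker π ∧ K₀.FG ∧
      ∀ x ∈ LinearMap.ker π, ∃ k : ℕ, f ^ k • x ∈ K₀

section

variable {R : Type u} {M M' M'' : Type u} [CommRing R] [AddCommGroup M] [Module R M]
  [AddCommGroup M'] [Module R M'] [AddCommGroup M''] [Module R M'']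

theorem FreeAway.of_dvd {f g : R} (h : FreeAway R M f) (hfg : f ∣ g) : FreeAway R M g := by
  obtain ⟨ι, b, h1, h2⟩ := h
  obtain ⟨c, rfl⟩ := hfg
  refine ⟨ι, b, fun l hl => ?_, fun m => ?_⟩
  · obtain ⟨k, hk⟩ := h1 l hl
    exact ⟨k, by rw [mul_pow, mul_comm, mul_smul, hk, smul_zero]⟩
  · obtain ⟨k, hk⟩ := h2 m
    exact ⟨k, by rw [mul_pow, mul_comm, mul_smul]; exact Submodule.smul_mem _ _ hk⟩

theorem FPAway.of_dvd {f g : R} (h : FPAway R M f) (hfg : f ∣ g) : FPAway R M g := by
  obtain ⟨F, _, _, π, K₀, h1, h2, h3, h4, h5, h6⟩ := h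
  obtain ⟨c, rfl⟩ := hfg
  refine ⟨F, inferInstance, inferInstance, π, K₀, h1, h2, h3, h4, h5, fun x hx => ?_⟩
  obtain ⟨k, hk⟩ := h6 x hx
  exact ⟨k, by rw [mul_pow, mul_comm, mul_smul]; exact Submodule.smul_mem _ _ hk⟩

theorem FreeAway.of_exact {f : R} (i : M' →ₗ[R] M) (q : M →ₗ[R] M'') (hi : Function.Injective i)
    (hq : Function.Surjective q) (hex : Function.Exact i q) (h' : FreeAway R M' f)
    (h'' : FreeAway R M'' f) : FreeAway R M f := by
  classical
  obtain ⟨ι', b', h1', h2'⟩ := h'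
  obtain ⟨ι'', b'', h1'', h2''⟩ := h''
  choose c hc using fun j => hq (b'' j)
  have hlc : ∀ (l' : ι' →₀ R) (l'' : ι'' →₀ R),
      Finsupp.linearCombination R (Sum.elim (fun j => i (b' j)) c) (l'.sumElim l'') =
        i (Finsupp.linearCombination R b' l') + Finsupp.linearCombination R c l'' := by
    intro l' l''
    rw [Finsupp.sumElim_eq_add, map_add, Finsupp.linearCombination_mapDomain,
      Finsupp.linearCombination_mapDomain, Finsupp.apply_linearCombination]
    rfl
  have hqc : ∀ l'' : ι'' →₀ R, q (Finsupp.linearCombination R c l'') =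
      Finsupp.linearCombination R b'' l'' := by
    intro l''
    rw [Finsupp.apply_linearCombination]
    congr 1
    congr 1
    funext j
    exact hc j
  refine ⟨ι' ⊕ ι'', Sum.elim (fun j => i (b' j)) c, fun l hl => ?_, fun m => ?_⟩
  · obtain ⟨l', l'', rfl⟩ : ∃ l' l'', l = Finsupp.sumElim l' l'' :=
      ⟨_, _, (Finsupp.comapDomain_sumElim_comapDomain l).symm⟩
    rw [hlc] at hl
    have h3 := congrArg q hl
    rw [map_add, hex.apply_apply_eq_zero, zero_add, hqc, map_zero] at h3
    obtain ⟨k, hk⟩ := h1'' l'' h3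
    have h4 : i (Finsupp.linearCombination R b' (f ^ k • l')) = 0 := by
      have h5 := congrArg (fun x => f ^ k • x) hl
      simp only [smul_add, smul_zero, ← map_smul, hk, map_zero, add_zero] at h5
      exact h5
    obtain ⟨k', hk'⟩ := h1' _ ((map_eq_zero_iff i hi).mp h4)
    refine ⟨k' + k, ?_⟩
    ext x
    rcases x with x | x
    · have := DFunLike.congr_fun hk' x
      simpa [pow_add, mul_assoc] using this
    · have := DFunLike.congr_fun hk x
      simp only [Finsupp.smul_apply, Finsupp.sumElim_inr, pow_add, mul_smul, Finsupp.coe_zero,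
        Pi.zero_apply] at this ⊢
      rw [this, smul_zero]
  · obtain ⟨k, hk⟩ := h2'' (q m)
    rw [Finsupp.mem_span_range_iff_exists_finsupp] at hk
    obtain ⟨l'', hl''⟩ := hk
    obtain ⟨m', hm'⟩ := (hex (f ^ k • m - Finsupp.linearCombination R c l'')).mp (by
      rw [map_sub, hqc, map_smul, ← hl'', Finsupp.linearCombination_apply, sub_self])
    obtain ⟨k', hk'⟩ := h2' m'
    rw [Finsupp.mem_span_range_iff_exists_finsupp] at hk'
    obtain ⟨l', hl'⟩ := hk'
    refine ⟨k' + k, ?_⟩
    rw [Finsupp.mem_span_range_iff_exists_finsupp]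
    refine ⟨l'.sumElim (f ^ k' • l''), ?_⟩
    rw [← Finsupp.linearCombination_apply, hlc, Finsupp.linearCombination_apply, hl', map_smul,
      map_smul, hm', ← smul_add, sub_add_cancel, pow_add, mul_smul]

theorem FPAway.of_exact {f : R} (i : M' →ₗ[R] M) (q : M →ₗ[R] M'') (hi : Function.Injective i)
    (hq : Function.Surjective q) (hex : Function.Exact i q) (h' : FPAway R M' f)
    (h'' : FPAway R M'' f) : FPAway R M f := by
  classical
  obtain ⟨F', _, _, π', K', h1', h2', h3', h4', h5', h6'⟩ := h'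
  obtain ⟨F'', _, _, π'', K'', h1'', h2'', h3'', h4'', h5'', h6''⟩ := h''
  obtain ⟨π₀, hπ₀⟩ := Module.projective_lifting_property q π'' hq
  have hπ₀' : ∀ x, q (π₀ x) = π'' x := fun x => LinearMap.congr_fun hπ₀ x
  let π : F' × F'' →ₗ[R] M := (i ∘ₗ π').coprod π₀
  have hπ : ∀ x, π x = i (π' x.1) + π₀ x.2 := fun x => rfl
  -- lifts of the generators of `K''`
  have hlift : ∀ x ∈ K'', ∃ y : F', i (π' y) + π₀ x = 0 := by
    intro x hx
    have h1 : q (π₀ x) = 0 := by rw [hπ₀']; exact h4'' hx
    obtain ⟨m', hm'⟩ := (hex _).mp h1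
    obtain ⟨y, hy⟩ := h3' m'
    exact ⟨-y, by rw [map_neg, map_neg, hy, hm', neg_add_cancel]⟩
  obtain ⟨s, hs⟩ := h5''
  have hsK : ∀ x ∈ s, x ∈ K'' := fun x hx => hs ▸ Submodule.subset_span hx
  have hch : ∀ x : F'', ∃ y : F', x ∈ s → i (π' y) + π₀ x = 0 := by
    intro x
    by_cases hx : x ∈ s
    · obtain ⟨y, hy⟩ := hlift x (hsK x hx)
      exact ⟨y, fun _ => hy⟩
    · exact ⟨0, fun h => absurd h hx⟩
  choose t ht using hch
  let K₀ : Submodule R (F' × F'') := K'.map (LinearMap.inl R F' F'') ⊔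
    Submodule.span R ((fun x => (t x, x)) '' (s : Set F''))
  have hK₀ker : K₀ ≤ LinearMap.ker π := by
    refine sup_le ?_ ?_
    · rintro _ ⟨x, hx, rfl⟩
      rw [LinearMap.mem_ker, hπ]
      have : π' x = 0 := h4' hx
      simp [this]
    · rw [Submodule.span_le]
      rintro _ ⟨x, hx, rfl⟩
      exact ht x hx
  have hproj : ∀ x ∈ K'', ∃ y : F', (y, x) ∈ K₀ := by
    intro x hx
    rw [← hs] at hx
    induction hx using Submodule.span_induction with
    | mem x hx => exact ⟨t x, Submodule.mem_sup_right (Submodule.subset_span ⟨x, hx, rfl⟩)⟩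
    | zero => exact ⟨0, Submodule.zero_mem _⟩
    | add x y _ _ hx hy =>
      obtain ⟨a, ha⟩ := hx
      obtain ⟨b, hb⟩ := hy
      exact ⟨a + b, Submodule.add_mem _ ha hb⟩
    | smul c x _ hx =>
      obtain ⟨a, ha⟩ := hx
      exact ⟨c • a, Submodule.smul_mem _ c ha⟩
  refine ⟨F' × F'', inferInstance, inferInstance, π, K₀, inferInstance, inferInstance, ?_,
    hK₀ker, ?_, ?_⟩
  · intro m
    obtain ⟨x, hx⟩ := h3'' (q m)
    obtain ⟨m', hm'⟩ := (hex (m - π₀ x)).mp (by rw [map_sub, hπ₀', hx, sub_self])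
    obtain ⟨y, hy⟩ := h3' m'
    exact ⟨(y, x), by rw [hπ, hy, hm', sub_add_cancel]⟩
  · exact (h5'.map _).sup (Submodule.fg_span (s.finite_toSet.image _))
  · rintro ⟨y, x⟩ hyx
    have h0 : i (π' y) + π₀ x = 0 := hyx
    have h1 : π'' x = 0 := by
      have h7 := congrArg q h0
      rwa [map_add, hex.apply_apply_eq_zero, zero_add, hπ₀', map_zero] at h7
    obtain ⟨k, hk⟩ := h6'' x h1
    obtain ⟨z, hz⟩ := hproj _ hk
    have h2 : (f ^ k • y - z, (0 : F'')) ∈ LinearMap.ker π := by
      have h3 : f ^ k • ((y, x) : F' × F'') - (z, f ^ k • x) ∈ LinearMap.ker π :=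
        Submodule.sub_mem _ (Submodule.smul_mem _ _ hyx) (hK₀ker hz)
      simpa using h3
    have h4 : i (π' (f ^ k • y - z)) = 0 := by
      have : π (f ^ k • y - z, (0 : F'')) = 0 := h2
      rw [hπ] at this
      simpa using this
    obtain ⟨k', hk'⟩ := h6' _ ((map_eq_zero_iff i hi).mp h4)
    refine ⟨k' + k, ?_⟩
    have h5 : f ^ (k' + k) • ((y, x) : F' × F'') =
        LinearMap.inl R F' F'' (f ^ k' • (f ^ k • y - z)) + f ^ k' • (z, f ^ k • x) := by
      ext <;> simp [pow_add, mul_smul, smul_sub]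
    rw [h5]
    exact Submodule.add_mem _ (Submodule.mem_sup_left ⟨_, hk', rfl⟩) (Submodule.smul_mem _ _ hz)

end

section Cyclic

variable {R : Type u} [CommRing R] {n : ℕ}

/-- `f` is a good denominator for the `R[x]`-module `M`. -/
def GoodAway (R : Type u) [CommRing R] (n : ℕ) (M : Type u) [AddCommGroup M]
    [Module (MvPolynomial (Fin n) R) M] [Module R M] (f : R) : Prop :=
  FreeAway R M f ∧ FPAway (MvPolynomial (Fin n) R) M (algebraMap R _ f)

theorem GoodAway.of_dvd {M : Type u} [AddCommGroup M]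
    [Module (MvPolynomial (Fin n) R) M] [Module R M] {f g : R} (h : GoodAway R n M f)
    (hfg : f ∣ g) : GoodAway R n M g :=
  ⟨h.1.of_dvd hfg, h.2.of_dvd (map_dvd _ hfg)⟩

/-- Cyclic modules, with an explicit finitely generated approximation of the annihilator. -/
theorem exists_good_of_cyclic' {M : Type u} [AddCommGroup M]
    [Module (MvPolynomial (Fin n) R) M] [Module R M] [IsScalarTower R (MvPolynomial (Fin n) R) M]
    (π : MvPolynomial (Fin n) R →ₗ[MvPolynomial (Fin n) R] M) (hπ : Function.Surjective π)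
    (g : R) (hg : g ≠ 0) : ∃ f : R, f ≠ 0 ∧ g ∣ f ∧ FreeAway R M f ∧
      ∃ I₀ : Ideal (MvPolynomial (Fin n) R), I₀ ≤ LinearMap.ker π ∧ I₀.FG ∧
        ∀ x ∈ LinearMap.ker π, ∃ k : ℕ, f ^ k • x ∈ I₀ := by
  classical
  obtain ⟨f, hf0, hgf, W, I₀, hI₀, hfg, h1, h2, h3⟩ :=
    GroebRed.exists_basis (MonomialOrder.lex (σ := Fin n)) (LinearMap.ker π) g hg
  let e : ULift.{u} W → MvPolynomial (Fin n) R := fun v => monomial v.down.1 1
  have he : LinearIndependent R e := by
    have h4 := (MvPolynomial.basisMonomials (Fin n) R).linearIndependent.comp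
      (fun v : ULift.{u} W => v.down.1) (fun a b hab => by
        apply ULift.down_injective
        exact Subtype.ext hab)
    exact h4
  let b : ULift.{u} W → M := fun v => π (e v)
  have hb : ∀ l : ULift.{u} W →₀ R, Finsupp.linearCombination R b l =
      π (Finsupp.linearCombination R e l) := by
    intro l
    have := Finsupp.apply_linearCombination R (π.restrictScalars R) e l
    exact this.symm
  have hpi : ∀ (c : R) (p : MvPolynomial (Fin n) R), π (c • p) = c • π p := fun c p =>
    (π.restrictScalars R).map_smul c p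
  refine ⟨f, hf0, hgf, ⟨ULift.{u} W, b, fun l hl => ?_, fun x => ?_⟩, ?_⟩
  · rw [hb] at hl
    obtain ⟨k, hk⟩ := h1 (Finsupp.linearCombination R e l) hl (by
      intro v hv
      rw [Finsupp.linearCombination_apply, Finsupp.sum] at hv
      obtain ⟨w, hw, hw'⟩ := Finset.mem_biUnion.mp (MvPolynomial.support_sum hv)
      have h5 := support_smul hw'
      have h6 := support_monomial_subset h5
      rw [Finset.mem_singleton] at h6
      rw [h6]
      exact w.down.2)
    refine ⟨k, ?_⟩
    rw [← map_smul] at hk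
    exact (linearIndependent_iff.mp he) _ hk
  · obtain ⟨p, rfl⟩ := hπ x
    obtain ⟨k, a, ha, q, hq, h⟩ := h2 p
    refine ⟨k, ?_⟩
    have h4 : π a = 0 := hI₀ ha
    rw [← hpi, h, map_add, h4, zero_add, ← q.support_sum_monomial_coeff, map_sum]
    refine Submodule.sum_mem _ fun v hv => ?_
    have h5 : monomial v (coeff v q) = coeff v q • (monomial v (1 : R)) := by
      rw [smul_monomial, smul_eq_mul, mul_one]
    rw [h5, hpi]
    exact Submodule.smul_mem _ _ (Submodule.subset_span ⟨⟨v, hq v hv⟩, rfl⟩)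
  · exact ⟨I₀, hI₀, hfg, h3⟩

theorem exists_good_of_cyclic {M : Type u} [AddCommGroup M]
    [Module (MvPolynomial (Fin n) R) M] [Module R M] [IsScalarTower R (MvPolynomial (Fin n) R) M]
    (π : MvPolynomial (Fin n) R →ₗ[MvPolynomial (Fin n) R] M) (hπ : Function.Surjective π)
    (g : R) (hg : g ≠ 0) : ∃ f : R, f ≠ 0 ∧ g ∣ f ∧ GoodAway R n M f := by
  obtain ⟨f, hf0, hgf, hfree, I₀, hI₀, hfg, h3⟩ := exists_good_of_cyclic' π hπ g hg
  refine ⟨f, hf0, hgf, hfree, MvPolynomial (Fin n) R, inferInstance, inferInstance, π, I₀,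
    inferInstance, inferInstance, hπ, hI₀, hfg, fun x hx => ?_⟩
  obtain ⟨k, hk⟩ := h3 x hx
  refine ⟨k, ?_⟩
  rw [← map_pow, algebraMap_smul]
  exact hk

theorem exists_good (m : ℕ) : ∀ (M : Type u) [AddCommGroup M]
    [Module (MvPolynomial (Fin n) R) M] [Module R M] [IsScalarTower R (MvPolynomial (Fin n) R) M]
    (s : Fin m → M) (_ : Submodule.span (MvPolynomial (Fin n) R) (Set.range s) = ⊤)
    (g : R) (_ : g ≠ 0), ∃ f : R, f ≠ 0 ∧ g ∣ f ∧ GoodAway R n M f := by
  classical
  induction m with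
  | zero =>
    intro M _ _ _ _ s hs g hg
    have hsub : Subsingleton M := by
      rw [← Submodule.subsingleton_iff (MvPolynomial (Fin n) R), ← subsingleton_iff_bot_eq_top,
        ← hs, Set.range_eq_empty, Submodule.span_empty]
    refine exists_good_of_cyclic (0 : MvPolynomial (Fin n) R →ₗ[MvPolynomial (Fin n) R] M)
      (fun x => ⟨0, Subsingleton.elim _ _⟩) g hg
  | succ m ih =>
    intro M _ _ _ _ s hs g hg
    let N : Submodule (MvPolynomial (Fin n) R) M := Submodule.span _ {s 0}
    obtain ⟨f₁, hf₁, hgf₁, hN⟩ := exists_good_of_cyclic (M := N)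
      ((LinearMap.toSpanSingleton (MvPolynomial (Fin n) R) M (s 0)).codRestrict N
        (fun x => Submodule.smul_mem _ _ (Submodule.mem_span_singleton_self _))) (by
        rintro ⟨x, hx⟩
        obtain ⟨c, rfl⟩ := Submodule.mem_span_singleton.mp hx
        exact ⟨c, rfl⟩) g hg
    obtain ⟨f₂, hf₂, hf₁f₂, hQ⟩ := ih (M ⧸ N) (fun j => Submodule.Quotient.mk (s j.succ)) (by
      rw [eq_top_iff]
      intro x _
      obtain ⟨x, rfl⟩ := Submodule.Quotient.mk_surjective _ x
      have hx : x ∈ Submodule.span (MvPolynomial (Fin n) R) (Set.range s) := by rw [hs]; trivial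
      have h1 : (Submodule.Quotient.mk x : M ⧸ N) ∈ (Submodule.span (MvPolynomial (Fin n) R)
        (Set.range s)).map N.mkQ := ⟨x, hx, rfl⟩
      rw [Submodule.map_span, ← Set.range_comp] at h1
      refine Submodule.span_le.mpr ?_ h1
      rintro _ ⟨j, rfl⟩
      induction j using Fin.cases with
      | zero =>
        have : (N.mkQ ∘ s) 0 = 0 := by
          change N.mkQ (s 0) = 0
          rw [Submodule.mkQ_apply, Submodule.Quotient.mk_eq_zero]
          exact Submodule.mem_span_singleton_self _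
        rw [this]
        exact Submodule.zero_mem _
      | succ j => exact Submodule.subset_span ⟨j, rfl⟩) f₁ hf₁
    refine ⟨f₂, hf₂, hgf₁.trans hf₁f₂, ?_⟩
    have hN' := hN.of_dvd hf₁f₂
    have hex : Function.Exact N.subtype N.mkQ := LinearMap.exact_subtype_mkQ N
    have hi : Function.Injective N.subtype := N.subtype_injective
    have hq : Function.Surjective N.mkQ := N.mkQ_surjective
    exact ⟨FreeAway.of_exact (N.subtype.restrictScalars R) (N.mkQ.restrictScalars R)
      hi hq hex hN'.1 hQ.1, FPAway.of_exact N.subtype N.mkQ hi hq hex hN'.2 hQ.2⟩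

end Cyclic

end K68.GenFreeRed
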