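import Groth.Agent.CAlg.K68.GenFreeRed
import Mathlib.RingTheory.LocalProperties.Projective
import Mathlib.RingTheory.Flat.LocallyFree
import Mathlib.LinearAlgebra.TensorProduct.Tower
import Mathlib.RingTheory.TensorProduct.IsBaseChangeHom

/-!
# Generic freeness over a reduced ring: passage to localizations
-/

set_option autoImplicit false
universe u

namespace K68.GenFreeRed

open MvPolynomial TensorProduct

section

variable {R : Type u} [CommRing R] (f : R) {N M : Type u} [AddCommGroup M] [Module R M]
  [AddCommGroup N] [Module R N]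

/-- A map with `f`-power torsion kernel and cokernel becomes bijective after inverting `f`. -/
theorem bijective_map (φ : N →ₗ[R] M) (hker : ∀ x, φ x = 0 → ∃ k : ℕ, f ^ k • x = 0)
    (hcoker : ∀ m, ∃ k : ℕ, ∃ x, φ x = f ^ k • m) :
    Function.Bijective (LocalizedModule.map (Submonoid.powers f) φ) := by
  constructor
  · rw [injective_iff_map_eq_zero]
    intro x hx
    induction x using LocalizedModule.induction_on with
    | _ x s =>
      rw [LocalizedModule.map_mk, ← LocalizedModule.zero_mk s, LocalizedModule.mk_eq] at hx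
      obtain ⟨⟨_, j, rfl⟩, hj⟩ := hx
      obtain ⟨_, i, rfl⟩ := s
      have h1 : φ (f ^ j • f ^ i • x) = 0 := by
        rw [map_smul, map_smul]
        exact hj.trans (by rw [smul_zero, smul_zero])
      obtain ⟨k, hk⟩ := hker _ h1
      rw [← LocalizedModule.zero_mk (1 : Submonoid.powers f), LocalizedModule.mk_eq]
      refine ⟨⟨f ^ (k + j + i), k + j + i, rfl⟩, ?_⟩
      change f ^ (k + j + i) • (1 : Submonoid.powers f) • x = f ^ (k + j + i) • _ • 0
      rw [one_smul, smul_zero, smul_zero, pow_add, pow_add, mul_smul, mul_smul, hk]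
  · intro y
    induction y using LocalizedModule.induction_on with
    | _ y s =>
      obtain ⟨k, x, hx⟩ := hcoker y
      let t : Submonoid.powers f := ⟨f ^ k, k, rfl⟩
      refine ⟨LocalizedModule.mk x (t * s), ?_⟩
      rw [LocalizedModule.map_mk, hx]
      exact LocalizedModule.mk_cancel_common_left t s y

theorem FreeAway.free {f : R} (h : FreeAway R M f) :
    Module.Free (Localization.Away f) (LocalizedModule (Submonoid.powers f) M) := by
  obtain ⟨ι, b, h1, h2⟩ := h
  have h3 := bijective_map f (Finsupp.linearCombination R b) (fun x hx => h1 x hx) (fun m => by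
    obtain ⟨k, hk⟩ := h2 m
    rw [← Finsupp.range_linearCombination] at hk
    exact ⟨k, hk⟩)
  have h4 : Module.Free (Localization.Away f) (LocalizedModule (Submonoid.powers f) (ι →₀ R)) :=
    Module.free_of_isLocalizedModule (Rₛ := Localization.Away f)
      (Mₛ := LocalizedModule (Submonoid.powers f) (ι →₀ R)) (Submonoid.powers f)
      (LocalizedModule.mkLinearMap (Submonoid.powers f) (ι →₀ R))
  exact Module.Free.of_equiv (LinearEquiv.ofBijective
    (LocalizedModule.map (Submonoid.powers f) (Finsupp.linearCombination R b)) h3)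

end

/-- From `P` to a quotient algebra `S` of `P`. -/
theorem FPAway.finitePresentation {P S M : Type u} [CommRing P] [CommRing S] [Algebra P S]
    (hPS : Function.Surjective (algebraMap P S)) [AddCommGroup M] [Module S M] [Module P M]
    [IsScalarTower P S M] {f : P} (h : FPAway P M f) :
    Module.FinitePresentation (Localization.Away (algebraMap P S f))
      (LocalizedModule (Submonoid.powers (algebraMap P S f)) M) := by
  obtain ⟨F, _, _, π, K₀, h1, h2, h3, h4, h5, h6⟩ := h
  have hFP0 : Module.FinitePresentation P F := Module.finitePresentation_of_projective _ _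
  have hFP : Module.FinitePresentation P (F ⧸ K₀) :=
    Module.finitePresentation_of_surjective K₀.mkQ K₀.mkQ_surjective (by
      rw [Submodule.ker_mkQ]; exact h5)
  let π' : (F ⧸ K₀) →ₗ[P] M := K₀.liftQ π h4
  let φ : S ⊗[P] (F ⧸ K₀) →ₗ[S] M := LinearMap.liftBaseChange S π'
  have hφ : ∀ (s : S) (x : F ⧸ K₀), φ (s ⊗ₜ x) = s • π' x := fun s x => by
    simp [φ, LinearMap.liftBaseChange]
  have hone : ∀ z : S ⊗[P] (F ⧸ K₀), ∃ x : F ⧸ K₀, z = 1 ⊗ₜ x := by
    intro z
    induction z using TensorProduct.induction_on with
    | zero => exact ⟨0, by simp⟩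
    | tmul s x =>
      obtain ⟨p, rfl⟩ := hPS s
      exact ⟨p • x, by rw [← TensorProduct.smul_tmul, Algebra.smul_def, mul_one]⟩
    | add a b ha hb =>
      obtain ⟨x, rfl⟩ := ha
      obtain ⟨y, rfl⟩ := hb
      exact ⟨x + y, by rw [TensorProduct.tmul_add]⟩
  have hbij := bijective_map (algebraMap P S f) φ (fun z hz => by
    obtain ⟨x, rfl⟩ := hone z
    obtain ⟨x, rfl⟩ := K₀.mkQ_surjective x
    rw [hφ, one_smul] at hz
    obtain ⟨k, hk⟩ := h6 x hz
    refine ⟨k, ?_⟩
    rw [← map_pow, algebraMap_smul, ← TensorProduct.tmul_smul, ← map_smul]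
    have : K₀.mkQ (f ^ k • x) = 0 := by
      rw [Submodule.mkQ_apply, Submodule.Quotient.mk_eq_zero]
      exact hk
    rw [this, TensorProduct.tmul_zero]) (fun m => by
    obtain ⟨x, hx⟩ := h3 m
    exact ⟨0, 1 ⊗ₜ K₀.mkQ x, by rw [hφ, one_smul, pow_zero, one_smul, ← hx]; rfl⟩)
  let e := LinearEquiv.ofBijective
    (LocalizedModule.map (Submonoid.powers (algebraMap P S f)) φ) hbij
  exact Module.FinitePresentation.of_equiv
    (M := LocalizedModule (Submonoid.powers (algebraMap P S f)) (S ⊗[P] (F ⧸ K₀))) e

/-- The localized algebra is finitely presented. -/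
theorem awayMap_finitePresentation {R S : Type u} [CommRing R] [CommRing S] [Algebra R S] {n : ℕ}
    (φ : MvPolynomial (Fin n) R →ₐ[R] S) (hφ : Function.Surjective φ) (f : R)
    (I₀ : Ideal (MvPolynomial (Fin n) R)) (hI₀ : ∀ x ∈ I₀, φ x = 0) (hfg : I₀.FG)
    (hsat : ∀ x, φ x = 0 → ∃ k : ℕ, f ^ k • x ∈ I₀) :
    (Localization.awayMap (algebraMap R S) f).FinitePresentation := by
  set P := MvPolynomial (Fin n) R
  have h0 : (algebraMap R P).FinitePresentation := by
    rw [RingHom.finitePresentation_algebraMap]; infer_instance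
  have h1 : (Localization.awayMap (algebraMap R P) f).FinitePresentation :=
    RingHom.finitePresentation_localizationPreserves.away _ _ _ _ h0
  have hφf : φ (algebraMap R P f) = algebraMap R S f := φ.commutes f
  let ψ : Localization.Away (algebraMap R P f) →+* Localization.Away (algebraMap R S f) :=
    IsLocalization.map (M := Submonoid.powers (algebraMap R P f))
      (T := Submonoid.powers (algebraMap R S f)) _ φ.toRingHom (by
        rw [Submonoid.powers_le]
        exact ⟨1, by simp [hφf]⟩)
  have hψ : ∀ x : P, ψ (algebraMap _ _ x) = algebraMap _ _ (φ x) := fun x => by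
    simp [ψ]
  have hunit : IsUnit (algebraMap P (Localization.Away (algebraMap R P f)) (algebraMap R P f)) :=
    IsLocalization.Away.algebraMap_isUnit _
  have hunit' : IsUnit (algebraMap S (Localization.Away (algebraMap R S f)) (algebraMap R S f)) :=
    IsLocalization.Away.algebraMap_isUnit _
  have hsurj : Function.Surjective ψ := by
    intro y
    obtain ⟨k, s, hs⟩ := IsLocalization.Away.surj (algebraMap R S f) y
    obtain ⟨p, hp⟩ := hφ s
    obtain ⟨x, hx⟩ : ∃ x, x * (algebraMap P (Localization.Away (algebraMap R P f))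
        (algebraMap R P f)) ^ k = algebraMap _ _ p := by
      obtain ⟨u, hu⟩ := hunit.pow k
      exact ⟨algebraMap _ _ p * (↑u⁻¹ : Localization.Away (algebraMap R P f)),
        by rw [← hu, mul_assoc, Units.inv_mul, mul_one]⟩
    refine ⟨x, (hunit'.pow k).mul_right_cancel ?_⟩
    have h2 := congrArg ψ hx
    rw [map_mul, map_pow, hψ, hψ, hφf, hp] at h2
    rw [h2, hs]
  have hker : RingHom.ker ψ = I₀.map (algebraMap P (Localization.Away (algebraMap R P f))) := by
    apply le_antisymm
    · intro x hx
      rw [RingHom.mem_ker] at hx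
      obtain ⟨k, a, ha⟩ := IsLocalization.Away.surj (algebraMap R P f) x
      have h2 := congrArg ψ ha
      rw [map_mul, hx, zero_mul, hψ, eq_comm,
        IsLocalization.map_eq_zero_iff (Submonoid.powers (algebraMap R S f))] at h2
      obtain ⟨⟨_, j, rfl⟩, hj⟩ := h2
      have h3 : φ (f ^ j • a) = 0 := by
        rw [map_smul, Algebra.smul_def, map_pow]
        exact hj
      obtain ⟨i, hi⟩ := hsat _ h3
      have h4 := Ideal.mem_map_of_mem (algebraMap P (Localization.Away (algebraMap R P f))) hi
      rw [Algebra.smul_def, Algebra.smul_def, map_mul, map_mul, map_pow, map_pow, map_pow,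
        map_pow, ← ha] at h4
      have h5 := (Ideal.unit_mul_mem_iff_mem _ (hunit.pow i)).mp h4
      have h6 := (Ideal.unit_mul_mem_iff_mem _ (hunit.pow j)).mp h5
      rw [mul_comm] at h6
      exact (Ideal.unit_mul_mem_iff_mem _ (hunit.pow k)).mp h6
    · rw [Ideal.map_le_iff_le_comap]
      intro x hx
      rw [Ideal.mem_comap, RingHom.mem_ker, hψ, hI₀ x hx, map_zero]
  have h2 : ψ.FinitePresentation :=
    RingHom.FinitePresentation.of_surjective ψ hsurj (by rw [hker]; exact hfg.map _)
  have h3 : Localization.awayMap (algebraMap R S) f =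
      ψ.comp (Localization.awayMap (algebraMap R P) f) := by
    apply IsLocalization.ringHom_ext (Submonoid.powers f)
    ext x
    simp only [Localization.awayMap, IsLocalization.Away.map, RingHom.comp_apply,
      IsLocalization.map_eq, hψ]
    rw [φ.commutes]
  rw [h3]
  exact h2.comp h1

end K68.GenFreeRed
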