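import Mathlib.RingTheory.MvPolynomial.MonomialOrder
import Mathlib.Data.Finsupp.PWO
import Mathlib.Order.WellQuasiOrder
import Mathlib.RingTheory.Nilpotent.Basic
import Mathlib.RingTheory.Finiteness.Basic

/-!
# Generic Gröbner bases over a reduced ring

For an ideal `I` of `R[x]`, `R` reduced, and `g ≠ 0` in `R` there is `f ≠ 0`, a multiple of `g`, such that
after inverting `f` the standard monomials are a basis of `R[x]/I` and `I` is finitely generated.
-/

set_option autoImplicit false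

namespace K68.GroebRed

open MvPolynomial

variable {σ : Type*} {R : Type*} [CommRing R] (m : MonomialOrder σ) (I : Ideal (MvPolynomial σ R))

/-- `p` is supported in degrees `≼ v`. -/
def Le (v : σ →₀ ℕ) (p : MvPolynomial σ R) : Prop := ∀ w ∈ p.support, m.toSyn w ≤ m.toSyn v

variable {m} in
theorem Le.smul {v : σ →₀ ℕ} {p : MvPolynomial σ R} (h : Le m v p) (c : R) : Le m v (c • p) :=
  fun w hw => h w (support_smul hw)

variable {m} in
theorem Le.sub {v : σ →₀ ℕ} {p q : MvPolynomial σ R} (h : Le m v p) (h' : Le m v q) :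
    Le m v (p - q) := by
  classical
  intro w hw
  rcases Finset.mem_union.mp (support_sub σ p q hw) with hw | hw
  · exact h w hw
  · exact h' w hw

theorem le_degree (p : MvPolynomial σ R) : Le m (m.degree p) p := fun _ hw => m.le_degree hw

theorem Le.monomial {v : σ →₀ ℕ} (c : R) : Le m v (monomial v c) := by
  classical
  intro w hw
  have := support_monomial_subset hw
  rw [Finset.mem_singleton] at this
  rw [this]

variable {m} in
theorem Le.monomial_mul {v : σ →₀ ℕ} {p : MvPolynomial σ R} (h : Le m v p) (u : σ →₀ ℕ) (c : R) :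
    Le m (u + v) (MvPolynomial.monomial u c * p) := by
  classical
  intro w hw
  have hw' := support_mul _ _ hw
  rw [Finset.mem_add] at hw'
  obtain ⟨a, ha, b, hb, rfl⟩ := hw'
  have := support_monomial_subset ha
  rw [Finset.mem_singleton] at this
  rw [this, map_add, map_add]
  exact add_le_add_right (h b hb) _

variable {m} in
theorem degree_lt {v : σ →₀ ℕ} {p : MvPolynomial σ R} (h : Le m v p) (h0 : coeff v p = 0)
    (hp : p ≠ 0) : m.toSyn (m.degree p) < m.toSyn v := by
  have h1 := m.degree_mem_support hp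
  refine lt_of_le_of_ne (h _ h1) fun h2 => ?_
  rw [m.toSyn.injective h2, mem_support_iff] at h1
  exact h1 h0

/-- The leading coefficients in degree `v` of elements of `I`. -/
def J (v : σ →₀ ℕ) : Set R := {c | ∃ p ∈ I, Le m v p ∧ coeff v p = c}

theorem J_mono {v w : σ →₀ ℕ} (h : v ≤ w) : J m I v ⊆ J m I w := by
  obtain ⟨u, rfl⟩ : ∃ u, w = u + v := ⟨w - v, (tsub_add_cancel_of_le h).symm⟩
  rintro _ ⟨p, hp, hv, rfl⟩
  exact ⟨monomial u 1 * p, I.mul_mem_left _ hp, hv.monomial_mul u (1 : R),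
    by rw [coeff_monomial_mul, one_mul]⟩

theorem mul_mem_J {v : σ →₀ ℕ} {c : R} (hc : c ∈ J m I v) (r : R) : r * c ∈ J m I v := by
  obtain ⟨p, hp, hv, rfl⟩ := hc
  refine ⟨r • p, ?_, hv.smul r, by rw [coeff_smul, smul_eq_mul]⟩
  rw [Algebra.smul_def]
  exact I.mul_mem_left _ hp

/-- the good denominators -/
def Good (f : R) : Prop := ∀ v, (∃ k : ℕ, f ^ k ∈ J m I v) ∨ ∀ c ∈ J m I v, f * c = 0

theorem exists_good [Finite σ] (g : R) (hg : g ≠ 0) : ∃ f : R, f ≠ 0 ∧ g ∣ f ∧ Good m I f := by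
  classical
  by_contra! hcon
  have h1 : ∀ x : {f : R // f ≠ 0 ∧ g ∣ f}, ∃ v : σ →₀ ℕ, ∃ c : R, c ∈ J m I v ∧ x.1 * c ≠ 0 ∧
      ∀ k : ℕ, x.1 ^ k ∉ J m I v := by
    intro x
    have h2 := hcon x.1 x.2.1 x.2.2
    rw [Good] at h2
    push Not at h2
    obtain ⟨v, h3, c, h4, h5⟩ := h2
    exact ⟨v, c, h4, h5, h3⟩
  choose v c hc hc' hv using h1
  let x : ℕ → {f : R // f ≠ 0 ∧ g ∣ f} := fun n => Nat.rec ⟨g, hg, dvd_rfl⟩
    (fun _ y => ⟨y.1 * c y, hc' y, y.2.2.mul_right _⟩) n
  have hx : ∀ n, (x (n + 1)).1 = (x n).1 * c (x n) := fun n => rfl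
  have hdvd : ∀ i j, i ≤ j → (x i).1 ∣ (x j).1 := by
    intro i j hij
    induction j, hij using Nat.le_induction with
    | base => exact dvd_rfl
    | succ j _ ih => rw [hx]; exact ih.mul_right _
  obtain ⟨i, j, hij, hle⟩ := wellQuasiOrdered_le (fun n => v (x n))
  have h6 : (x (i + 1)).1 ∈ J m I (v (x i)) := by
    rw [hx]
    exact mul_mem_J m I (hc (x i)) _
  obtain ⟨r, hr⟩ := hdvd (i + 1) j hij
  apply hv (x j) 1
  rw [pow_one, hr, mul_comm]
  exact J_mono m I hle (mul_mem_J m I h6 r)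

/-- Finitely many minimal degrees suffice. -/
theorem exists_finset [Finite σ] (f : R) : ∃ F : Finset (σ →₀ ℕ),
    (∀ w ∈ F, ∃ k : ℕ, f ^ k ∈ J m I w) ∧
    ∀ v, (∃ k : ℕ, f ^ k ∈ J m I v) → ∃ w ∈ F, w ≤ v := by
  classical
  let T : Set (σ →₀ ℕ) := {v | ∃ k : ℕ, f ^ k ∈ J m I v}
  have hfin : {v | Minimal (· ∈ T) v}.Finite :=
    WellQuasiOrderedLE.finite_of_isAntichain (setOfPred_minimal_antichain _)
  refine ⟨hfin.toFinset, ?_, ?_⟩
  · intro w hw
    rw [Set.Finite.mem_toFinset] at hw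
    exact hw.1
  · intro v hv
    obtain ⟨w, hw, hw'⟩ := exists_minimal_le_of_wellFoundedLT (· ∈ T) v hv
    exact ⟨w, by rw [Set.Finite.mem_toFinset]; exact hw', hw⟩

/-- Elements of `I` supported in standard degrees are killed by a power of `f`. -/
theorem exists_pow_smul_eq_zero {f : R} (W : Set (σ →₀ ℕ))
    (hW : ∀ v ∈ W, ∀ c ∈ J m I v, f * c = 0) (p : MvPolynomial σ R) (hp : p ∈ I)
    (hpW : ∀ v ∈ p.support, v ∈ W) : ∃ k : ℕ, f ^ k • p = 0 := by
  classical
  have key : ∀ (s : m.syn) (p : MvPolynomial σ R), m.toSyn (m.degree p) = s → p ∈ I →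
      (∀ v ∈ p.support, v ∈ W) → ∃ k : ℕ, f ^ k • p = 0 := by
    intro s
    induction s using WellFoundedLT.induction with
    | ind s ih =>
      intro p hs hp hpW
      by_cases hp0 : p = 0
      · exact ⟨0, by simp [hp0]⟩
      have h1 := m.degree_mem_support hp0
      have h2 : f * coeff (m.degree p) p = 0 :=
        hW _ (hpW _ h1) _ ⟨p, hp, le_degree m p, rfl⟩
      by_cases hfp : f • p = 0
      · exact ⟨1, by simpa using hfp⟩
      have h3 : m.toSyn (m.degree (f • p)) < m.toSyn (m.degree p) :=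
        degree_lt ((le_degree m p).smul f) (by rw [coeff_smul, smul_eq_mul, h2]) hfp
      obtain ⟨k, hk⟩ := ih _ (hs ▸ h3) (f • p) rfl (by
        rw [Algebra.smul_def]; exact I.mul_mem_left _ hp) (fun v hv => hpW v (support_smul hv))
      exact ⟨k + 1, by rw [pow_succ, mul_smul, hk]⟩
  exact key _ p rfl hp hpW

/-- Division: up to a power of `f`, every polynomial is a combination of standard monomials modulo
the ideal generated by finitely many elements of `I`. -/
theorem exists_division {f : R} (F : Finset (σ →₀ ℕ)) (G : (σ →₀ ℕ) → MvPolynomial σ R)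
    (hG : ∀ w ∈ F, Le m w (G w) ∧ ∃ k : ℕ, coeff w (G w) = f ^ k)
    (W : Set (σ →₀ ℕ)) (hW : ∀ v, v ∉ W → ∃ w ∈ F, w ≤ v) (p : MvPolynomial σ R) :
    ∃ k : ℕ, ∃ a ∈ Ideal.span (G '' F), ∃ b : MvPolynomial σ R,
      (∀ v ∈ b.support, v ∈ W) ∧ f ^ k • p = a + b := by
  classical
  have key : ∀ (s : m.syn) (p : MvPolynomial σ R), m.toSyn (m.degree p) = s →
      ∃ k : ℕ, ∃ a ∈ Ideal.span (G '' F), ∃ b : MvPolynomial σ R,
        (∀ v ∈ b.support, v ∈ W) ∧ f ^ k • p = a + b := by
    intro s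
    induction s using WellFoundedLT.induction with
    | ind s ih =>
      intro p hs
      set v := m.degree p with hv
      set c := coeff v p with hc
      by_cases hvW : v ∈ W
      · -- subtract the leading term
        have hsub : ∃ k : ℕ, ∃ a ∈ Ideal.span (G '' F), ∃ b : MvPolynomial σ R,
            (∀ v ∈ b.support, v ∈ W) ∧ f ^ k • (p - monomial v c) = a + b := by
          by_cases h0 : p - monomial v c = 0
          · exact ⟨0, 0, Ideal.zero_mem _, 0, by simp, by simp [h0]⟩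
          · exact ih _ (hs ▸ degree_lt ((le_degree m p).sub (Le.monomial m c))
              (by rw [coeff_sub, coeff_monomial, if_pos rfl, sub_self]) h0) _ rfl
        obtain ⟨k, a, ha, b, hb, h⟩ := hsub
        refine ⟨k, a, ha, b + monomial v (f ^ k * c), ?_, ?_⟩
        · intro w hw
          rcases Finset.mem_union.mp (support_add hw) with hw | hw
          · exact hb w hw
          · have := support_monomial_subset hw
            rw [Finset.mem_singleton] at this
            rwa [this]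
        · rw [← add_assoc, ← h, smul_sub, smul_monomial, smul_eq_mul, sub_add_cancel]
      · obtain ⟨w, hw, hwv⟩ := hW v hvW
        obtain ⟨u, hu⟩ : ∃ u, v = u + w := ⟨v - w, (tsub_add_cancel_of_le hwv).symm⟩
        obtain ⟨hG1, k₀, hk₀⟩ := hG w hw
        have hsub : ∃ k : ℕ, ∃ a ∈ Ideal.span (G '' F), ∃ b : MvPolynomial σ R,
            (∀ v ∈ b.support, v ∈ W) ∧ f ^ k • (f ^ k₀ • p - monomial u c * G w) = a + b := by
          by_cases h0 : f ^ k₀ • p - monomial u c * G w = 0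
          · exact ⟨0, 0, Ideal.zero_mem _, 0, by simp, by simp [h0]⟩
          · refine ih _ (hs ▸ degree_lt (((le_degree m p).smul _).sub ?_) ?_ h0) _ rfl
            · rw [← hv, hu]
              exact hG1.monomial_mul u c
            · have h4 : coeff v (monomial u c * G w) = c * coeff w (G w) := by
                rw [hu, coeff_monomial_mul]
              rw [coeff_sub, coeff_smul, h4, hk₀, ← hc, smul_eq_mul, mul_comm, sub_self]
        obtain ⟨k, a, ha, b, hb, h⟩ := hsub
        refine ⟨k + k₀, a + f ^ k • (monomial u c * G w), ?_, b, hb, ?_⟩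
        · refine Ideal.add_mem _ ha ?_
          rw [Algebra.smul_def]
          exact Ideal.mul_mem_left _ _ (Ideal.mul_mem_left _ _
            (Ideal.subset_span ⟨w, hw, rfl⟩))
        · rw [pow_add, mul_smul, add_right_comm, ← h, smul_sub, sub_add_cancel]
  exact key _ p rfl

include m in
/-- The package: after inverting a suitable `f`, standard monomials form a basis of `R[x]/I` and
`I` is finitely generated. -/
theorem exists_basis [Finite σ] (g : R) (hg : g ≠ 0) : ∃ f : R, f ≠ 0 ∧ g ∣ f ∧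
    ∃ (W : Set (σ →₀ ℕ)) (I₀ : Ideal (MvPolynomial σ R)), I₀ ≤ I ∧ I₀.FG ∧
      (∀ p ∈ I, (∀ v ∈ p.support, v ∈ W) → ∃ k : ℕ, f ^ k • p = 0) ∧
      (∀ p : MvPolynomial σ R, ∃ k : ℕ, ∃ a ∈ I₀, ∃ b : MvPolynomial σ R,
        (∀ v ∈ b.support, v ∈ W) ∧ f ^ k • p = a + b) ∧
      (∀ p ∈ I, ∃ k : ℕ, f ^ k • p ∈ I₀) := by
  classical
  obtain ⟨f, hf0, hgf, hf⟩ := exists_good m I g hg
  obtain ⟨F, hF, hF'⟩ := exists_finset m I f
  have h1 : ∀ w : σ →₀ ℕ, ∃ G : MvPolynomial σ R, w ∈ F → G ∈ I ∧ Le m w G ∧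
      ∃ k : ℕ, coeff w G = f ^ k := by
    intro w
    by_cases hw : w ∈ F
    · obtain ⟨k, p, hp, hp', hk⟩ := hF w hw
      exact ⟨p, fun _ => ⟨hp, hp', k, hk⟩⟩
    · exact ⟨0, fun h => absurd h hw⟩
  choose G hG using h1
  set W : Set (σ →₀ ℕ) := {v | ¬ ∃ k : ℕ, f ^ k ∈ J m I v} with hWdef
  have hW1 : ∀ v ∈ W, ∀ c ∈ J m I v, f * c = 0 := fun v hv => (hf v).resolve_left hv
  have hW2 : ∀ v, v ∉ W → ∃ w ∈ F, w ≤ v := fun v hv => hF' v (not_not.mp hv)
  have hI₀ : Ideal.span (G '' F) ≤ I := by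
    rw [Ideal.span_le]
    rintro _ ⟨w, hw, rfl⟩
    exact (hG w hw).1
  have h2 := exists_pow_smul_eq_zero m I W hW1
  have h3 := exists_division m F G (fun w hw => (hG w hw).2) W hW2
  refine ⟨f, hf0, hgf, W, Ideal.span (G '' F), hI₀, ?_, h2, h3, ?_⟩
  · exact Submodule.fg_span (F.finite_toSet.image G)
  · intro p hp
    obtain ⟨k, a, ha, b, hb, h⟩ := h3 p
    have hbI : b ∈ I := by
      have : b = f ^ k • p - a := by rw [h]; ring
      rw [this, Algebra.smul_def]
      exact I.sub_mem (I.mul_mem_left _ hp) (hI₀ ha)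
    obtain ⟨l, hl⟩ := h2 b hbI hb
    refine ⟨l + k, ?_⟩
    rw [pow_add, mul_smul, h, smul_add, hl, add_zero, Algebra.smul_def]
    exact Ideal.mul_mem_left _ _ ha

end K68.GroebRed
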