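import Groth.Agent.CalgA.DimFormula2
import Mathlib.RingTheory.Ideal.Height
import Mathlib.RingTheory.Ideal.KrullsHeightTheorem

/-!
# Primes of height one in algebraic finite type extensions of Noetherian domains
-/

set_option autoImplicit false
universe u v

namespace K68.HtOne

variable {A : Type u} {B : Type v} [CommRing A] [IsDomain A]
    [IsNoetherianRing A] [CommRing B] [IsDomain B] [Algebra A B] [FaithfulSMul A B]
    [Algebra.FiniteType A B] [Algebra.IsAlgebraic A B]

/-- In an algebraic finite type extension of domains, the height does not increase and the residue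
extension is algebraic when the heights agree. -/
theorem height_add_trdeg_le (p : Ideal A) [p.IsPrime] (q : Ideal B) [q.IsPrime] [q.LiesOver p] :
    ∃ hq hp t' : ℕ, q.height = hq ∧ p.height = hp ∧ Algebra.trdeg (A ⧸ p) (B ⧸ q) = t' ∧
      hq + t' ≤ hp := by
  obtain ⟨hq, hp, t, t', e1, e2, e3, e4, e5, -⟩ :=
    Groth.Agent.CalgA.DimFormula2.exists_dimension_formula p q
  have h0 : Algebra.trdeg A B = 0 := _root_.trdeg_eq_zero
  rw [h0] at e3
  have : t = 0 := by exact_mod_cast e3.symm
  subst this
  exact ⟨hq, hp, t', e1, e2, e4, by simpa using e5⟩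

theorem height_eq_one (p : Ideal A) [p.IsPrime] (hp : p.height = 1) (q : Ideal B)
    (hq : q ∈ p.primesOver B) : q.height = 1 := by
  have h1 := hq.1
  have h2 := hq.2
  obtain ⟨a, b, t', e1, e2, e3, e4⟩ := height_add_trdeg_le p q
  rw [hp] at e2
  have hb : b = 1 := by exact_mod_cast e2.symm
  have hne : q ≠ ⊥ := by
    rintro rfl
    have h3 : p = (⊥ : Ideal B).under A := h2.over
    have h4 : p = ⊥ := by
      rw [h3, eq_bot_iff]
      intro x hx
      have h5 : algebraMap A B x = 0 := hx
      exact (map_eq_zero_iff _ (FaithfulSMul.algebraMap_injective A B)).1 h5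
    rw [h4, Ideal.height_bot] at hp
    exact zero_ne_one hp
  have ha : a ≠ 0 := by
    rintro rfl
    have : q ∈ minimalPrimes B := by
      rw [← Ideal.height_eq_zero_iff]
      simpa using e1
    rw [IsDomain.minimalPrimes_eq_singleton_bot] at this
    exact hne this
  have : a = 1 := by omega
  rw [e1, this]
  rfl

theorem finite_primesOver (p : Ideal A) [p.IsPrime] (hp : p.height = 1) :
    (p.primesOver B).Finite := by
  have : IsNoetherianRing B := Algebra.FiniteType.isNoetherianRing A B
  refine (Ideal.finite_minimalPrimes_of_isNoetherianRing B (p.map (algebraMap A B))).subset ?_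
  intro q hq
  have h1 := hq.1
  have h2 := hq.2
  have hle : p.map (algebraMap A B) ≤ q := by
    rw [Ideal.map_le_iff_le_comap]
    exact h2.over.le
  refine ⟨⟨h1, hle⟩, fun q' hq' hq'q => ?_⟩
  have h3 := hq'.1
  by_contra hcon
  have hlt : q' < q := lt_of_le_of_ne hq'q (fun h => hcon h.ge)
  have h4 := Ideal.height_strict_mono_of_isPrime_of_isPrime hlt
  rw [height_eq_one p hp q hq] at h4
  have h5 : q'.height = 0 := by
    exact Order.lt_one_iff.1 h4
  have h6 : q' ∈ minimalPrimes B := by
    rwa [← Ideal.height_eq_zero_iff]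
  rw [IsDomain.minimalPrimes_eq_singleton_bot] at h6
  have h7 : q' = ⊥ := h6
  have h8 := hq'.2
  rw [h7, le_bot_iff, Ideal.map_eq_bot_iff_of_injective
    (FaithfulSMul.algebraMap_injective A B)] at h8
  rw [h8, Ideal.height_bot] at hp
  exact zero_ne_one hp

end K68.HtOne
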