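import Groth.Agent.Ega2.KrullAkizuki
import Mathlib.RingTheory.KrullDimension.Field
import Mathlib.RingTheory.KrullDimension.Zero
import Mathlib.RingTheory.Artinian.Ring
import Mathlib.RingTheory.LocalRing.MaximalIdeal.Basic
import Mathlib.RingTheory.Ideal.Over
import Mathlib.RingTheory.Spectrum.Maximal.Topology

/-!
# Consequences of Krull-Akizuki
-/

set_option autoImplicit false

open IsLocalRing Pointwise

namespace K68.KAk

universe u v w

theorem krullDimLE_one {R : Type u} [CommRing R] (h : ringKrullDim R ≤ 1) :
    Ring.KrullDimLE 1 R := by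
  rw [Ring.krullDimLE_iff]
  exact h

/-- `M / xM` has finite length for `M` inside a finite-dimensional vector space over the fraction
field of a one-dimensional Noetherian domain. -/
theorem length_quotient_ne_top {R : Type u} [CommRing R] [IsDomain R]
    [IsNoetherianRing R] (hdim : ringKrullDim R ≤ 1) {K : Type v} [Field K] [Algebra R K]
    [IsFractionRing R K] {V : Type w} [AddCommGroup V] [Module K V] [Module R V]
    [IsScalarTower R K V] [FiniteDimensional K V] (M : Submodule R V) (x : R) (hx : x ≠ 0) :
    Module.length R (M ⧸ (Ideal.span ({x} : Set R) • (⊤ : Submodule R M))) ≠ ⊤ := by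
  have := krullDimLE_one hdim
  have h1 := Groth.Agent.Ega2.KrullAkizuki.length_submodule_vectorSpace (K := K) x hx _ V rfl M
  have h2 : Module.length R (M ⧸ (x • (⊤ : Submodule R M))) ≠ ⊤ := by
    refine ne_top_of_le_ne_top ?_ h1
    exact WithTop.mul_ne_top (ENat.natCast_ne_top _)
      (Ring.ord_ne_top (mem_nonZeroDivisors_of_ne_zero hx))
  rw [Submodule.ideal_span_singleton_smul]
  exact h2

theorem exists_mem_maximalIdeal (R : Type u) [CommRing R] [IsLocalRing R]
    (hdim : ringKrullDim R = 1) :
    ∃ a ∈ maximalIdeal R, a ≠ 0 := by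
  apply Submodule.exists_mem_ne_zero_of_ne_bot
  intro h
  have hf := IsLocalRing.isField_iff_maximalIdeal_eq.2 h
  have := ringKrullDim_eq_zero_of_isField hf
  rw [hdim] at this
  exact one_ne_zero this

section

variable (R : Type u) (S : Type v) (K : Type w) (L : Type*)
    [CommRing R] [IsDomain R] [IsNoetherianRing R]
    [CommRing S] [Algebra R S] [Field K] [Field L] [Algebra R K] [IsFractionRing R K]
    [Algebra S L] [IsFractionRing S L] [Algebra K L] [Algebra R L] [IsScalarTower R K L]
    [IsScalarTower R S L] [FiniteDimensional K L]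

include K L

theorem isArtinian_quotient (hdim : ringKrullDim R = 1) (a : R) (ha0 : a ≠ 0) :
    IsFiniteLength R (S ⧸ Ideal.span {algebraMap R S a}) := by
  have := krullDimLE_one hdim.le
  exact Groth.Agent.Ega2.KrullAkizuki.isFiniteLength_quotient (K := K) (L := L)
    (FaithfulSMul.algebraMap_injective S L) a ha0

theorem primesOver_maximal [IsLocalRing R] (hdim : ringKrullDim R = 1) :
    (∀ n ∈ (maximalIdeal R).primesOver S, n.IsMaximal) ∧
      ((maximalIdeal R).primesOver S).Finite ∧
      ∀ n ∈ (maximalIdeal R).primesOver S, Module.Finite R (S ⧸ n) := by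
  obtain ⟨a, ha, ha0⟩ := exists_mem_maximalIdeal R hdim
  have hfl := isArtinian_quotient R S K L hdim a ha0
  set I : Ideal S := Ideal.span {algebraMap R S a} with hI
  have hle : ∀ n ∈ (maximalIdeal R).primesOver S, I ≤ n := by
    intro n hn
    rw [hI, Ideal.span_singleton_le_iff_mem]
    have := hn.2.over
    rw [this] at ha
    exact ha
  rw [isFiniteLength_iff_isNoetherian_isArtinian] at hfl
  obtain ⟨h1, h2⟩ := hfl
  have hN : IsNoetherian S (S ⧸ I) := isNoetherian_of_tower R h1
  have hA : IsArtinian S (S ⧸ I) := isArtinian_of_tower R h2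
  have hA' : IsArtinianRing (S ⧸ I) := by
    exact isArtinian_of_tower S hA
  have hmax : ∀ n ∈ (maximalIdeal R).primesOver S, n.IsMaximal := by
    intro n hn
    have := hn.1
    have hp : (n.map (Ideal.Quotient.mk I)).IsPrime :=
      Ideal.map_isPrime_of_surjective Ideal.Quotient.mk_surjective (by simpa using hle n hn)
    have hm : (n.map (Ideal.Quotient.mk I)).IsMaximal := IsArtinianRing.isMaximal_of_isPrime _
    have := Ideal.comap_isMaximal_of_surjective (Ideal.Quotient.mk I) Ideal.Quotient.mk_surjective
      (K := n.map (Ideal.Quotient.mk I))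
    rwa [Ideal.comap_map_of_surjective _ Ideal.Quotient.mk_surjective, ← RingHom.ker_eq_comap_bot,
      Ideal.mk_ker, sup_eq_left.2 (hle n hn)] at this
  refine ⟨hmax, ?_, ?_⟩
  · have hfin : Finite (PrimeSpectrum (S ⧸ I)) := inferInstance
    have : (Set.range (fun x : PrimeSpectrum (S ⧸ I) =>
        (x.asIdeal.comap (Ideal.Quotient.mk I)))).Finite := Set.finite_range _
    refine this.subset ?_
    intro n hn
    have := hn.1
    have hp : (n.map (Ideal.Quotient.mk I)).IsPrime :=
      Ideal.map_isPrime_of_surjective Ideal.Quotient.mk_surjective (by simpa using hle n hn)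
    refine ⟨⟨_, hp⟩, ?_⟩
    change (n.map (Ideal.Quotient.mk I)).comap (Ideal.Quotient.mk I) = n
    rw [Ideal.comap_map_of_surjective _ Ideal.Quotient.mk_surjective, ← RingHom.ker_eq_comap_bot,
      Ideal.mk_ker, sup_eq_left.2 (hle n hn)]
  · intro n hn
    have : Module.Finite R (S ⧸ I) := inferInstance
    exact Module.Finite.of_surjective
      ((Ideal.Quotient.factorₐ R (hle n hn)).toLinearMap) (Ideal.Quotient.factor_surjective (hle n hn))

end

end K68.KAk
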