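import Mathlib.Algebra.Module.LocalizedModule.Submodule
import Mathlib.Algebra.Module.FinitePresentation
import Mathlib.RingTheory.Localization.Module

/-!
# Approximating finitely presented localized modules
-/

set_option autoImplicit false
universe u

namespace K68.LocFP

open Submodule

/-- A finitely generated localized submodule is the localization of a finitely generated
submodule. -/
theorem exists_fg_localized'_eq {R : Type*} (S : Type*) {M N : Type*} [CommRing R] [CommRing S]
    [AddCommGroup M] [AddCommGroup N] [Module R M] [Module R N] [Algebra R S] [Module S N]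
    [IsScalarTower R S N] (p : Submonoid R) [IsLocalization p S] (f : M →ₗ[R] N)
    [IsLocalizedModule p f] (M' : Submodule R M) (h : (M'.localized' S p f).FG) :
    ∃ M₀ ≤ M', M₀.FG ∧ M₀.localized' S p f = M'.localized' S p f := by
  classical
  rw [Submodule.localized'_eq_span, Submodule.fg_span_iff_fg_span_finset_subset] at h
  obtain ⟨t, ht, ht'⟩ := h
  obtain ⟨s, hs, rfl⟩ := Finset.subset_set_image_iff.1 ht
  refine ⟨span R (s : Set M), Submodule.span_le.2 hs, ⟨s, rfl⟩, ?_⟩
  rw [Submodule.localized'_span, Submodule.localized'_eq_span, ht', Finset.coe_image]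

theorem ker_map {R : Type*} [CommRing R] (S : Submonoid R)
    {M N : Type*} [AddCommGroup M] [Module R M] [AddCommGroup N] [Module R N] (g : M →ₗ[R] N) :
    LinearMap.ker (LocalizedModule.map S g) =
      (LinearMap.ker g).localized' (Localization S) S (LocalizedModule.mkLinearMap S M) :=
  (LinearMap.localized'_ker_eq_ker_localizedMap (Localization S) S _
    (LocalizedModule.mkLinearMap S N) g).symm

theorem range_map {R : Type*} [CommRing R] (S : Submonoid R)
    {M N : Type*} [AddCommGroup M] [Module R M] [AddCommGroup N] [Module R N] (g : M →ₗ[R] N) :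
    LinearMap.range (LocalizedModule.map S g) =
      (LinearMap.range g).localized' (Localization S) S (LocalizedModule.mkLinearMap S N) :=
  (LinearMap.localized'_range_eq_range_localizedMap (Localization S) S
    (LocalizedModule.mkLinearMap S M) _ g).symm

theorem exists_finitePresentation {R : Type u} [CommRing R] (S : Submonoid R)
    (M : Type u) [AddCommGroup M] [Module R M]
    [Module.FinitePresentation (Localization S) (LocalizedModule S M)] :
    ∃ (M' : Type u) (_ : AddCommGroup M') (_ : Module R M') (φ : M' →ₗ[R] M),
      Module.FinitePresentation R M' ∧ Function.Bijective (LocalizedModule.map S φ) := by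
  obtain ⟨M₀, -, hfg, hM₀⟩ := exists_fg_localized'_eq (Localization S) S
    (LocalizedModule.mkLinearMap S M) ⊤ (by
      rw [Submodule.localized'_top]
      exact Module.Finite.fg_top)
  rw [Submodule.localized'_top] at hM₀
  have : Module.Finite R M₀ := Module.Finite.iff_fg.2 hfg
  obtain ⟨n, g₀, hg₀⟩ := Module.Finite.exists_fin' R M₀
  let g : (Fin n → R) →ₗ[R] M := M₀.subtype ∘ₗ g₀
  have hg : LinearMap.range g = M₀ := by
    rw [LinearMap.range_comp, LinearMap.range_eq_top.2 hg₀, Submodule.map_top,
      Submodule.range_subtype]
  have hsurj : Function.Surjective (LocalizedModule.map S g) := by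
    rw [← LinearMap.range_eq_top, range_map, hg, hM₀]
  have hker := Module.FinitePresentation.fg_ker (LocalizedModule.map S g) hsurj
  rw [ker_map] at hker
  obtain ⟨K, hK, hKfg, hKeq⟩ := exists_fg_localized'_eq (Localization S) S _ _ hker
  refine ⟨(Fin n → R) ⧸ K, inferInstance, inferInstance, K.liftQ g hK, ?_, ?_, ?_⟩
  · exact Module.finitePresentation_of_surjective K.mkQ K.mkQ_surjective (by simpa using hKfg)
  · rw [← LinearMap.ker_eq_bot, LinearMap.ker_eq_bot']
    intro z hz
    obtain ⟨w, rfl⟩ := LocalizedModule.map_surjective S K.mkQ K.mkQ_surjective z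
    have h1 : LocalizedModule.map S g w = 0 := by
      rw [← hz]
      induction w using LocalizedModule.induction_on with
      | h m s => simp
    have h2 : w ∈ LinearMap.ker (LocalizedModule.map S g) := h1
    rw [ker_map, ← hKeq] at h2
    have h3 : w ∈ LinearMap.ker (LocalizedModule.map S K.mkQ) := by
      rw [ker_map, Submodule.ker_mkQ]
      exact h2
    exact h3
  · intro y
    obtain ⟨w, rfl⟩ := hsurj y
    refine ⟨LocalizedModule.map S K.mkQ w, ?_⟩
    induction w using LocalizedModule.induction_on with
    | h m s => simp

end K68.LocFP
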