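import Mathlib.RingTheory.Nilpotent.Lemmas
import Mathlib.RingTheory.FiniteType
import Mathlib.RingTheory.FinitePresentation
import Mathlib.RingTheory.Ideal.Quotient.Nilpotent
import Mathlib.RingTheory.Noetherian.Nilpotent
import Groth.Agent.Flat2D.NilpAlg

/-!
# Nakayama for locally nilpotent ideals
-/

set_option autoImplicit false

namespace K68.NilSurj

universe u v

/-- Nilpotent Nakayama. -/
theorem eq_top_of_sup_smul_eq_top {R M : Type*} [CommRing R] [AddCommGroup M] [Module R M]
    {J : Ideal R} (hJ : IsNilpotent J) (N : Submodule R M) (h : N ⊔ J • ⊤ = ⊤) : N = ⊤ := by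
  obtain ⟨n, hn⟩ := hJ
  have key : ∀ k : ℕ, N ⊔ (J ^ k) • (⊤ : Submodule R M) = ⊤ := by
    intro k
    induction k with
    | zero => simp
    | succ k ih =>
      refine le_antisymm le_top ?_
      calc (⊤ : Submodule R M) = N ⊔ (J ^ k) • (N ⊔ J • ⊤) := by rw [h, ih]
        _ ≤ N ⊔ (J ^ (k + 1)) • ⊤ := by
          rw [Submodule.smul_sup, ← sup_assoc, pow_succ, Submodule.mul_smul]
          exact sup_le_sup_right (sup_le le_rfl Submodule.smul_le_right) _
  have := key n
  rw [hn, Ideal.zero_eq_bot, Submodule.bot_smul, sup_bot_eq] at this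
  exact this

theorem eq_bot_of_le_smul {R M : Type*} [CommRing R] [AddCommGroup M] [Module R M]
    {J : Ideal R} (hJ : IsNilpotent J) (N : Submodule R M) (h : N ≤ J • N) : N = ⊥ := by
  obtain ⟨n, hn⟩ := hJ
  have key : ∀ k : ℕ, N ≤ (J ^ k) • N := by
    intro k
    induction k with
    | zero => simp
    | succ k ih =>
      refine ih.trans ?_
      rw [pow_succ, Submodule.mul_smul]
      exact Submodule.smul_mono le_rfl h
  have := key n
  rw [hn, Ideal.zero_eq_bot, Submodule.bot_smul] at this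
  exact le_bot_iff.1 this

theorem exists_fg_le_of_mem_map {R S : Type*} [CommRing R] [CommRing S] [Algebra R S]
    (I : Ideal R) (y : S) (hy : y ∈ I.map (algebraMap R S)) :
    ∃ I' ≤ I, I'.FG ∧ y ∈ I'.map (algebraMap R S) := by
  refine Submodule.span_induction (p := fun y _ => ∃ I' ≤ I, I'.FG ∧ y ∈ I'.map (algebraMap R S))
    ?_ ?_ ?_ ?_ hy
  · rintro _ ⟨a, ha, rfl⟩
    refine ⟨Ideal.span {a}, ?_, ⟨{a}, by simp⟩, Ideal.mem_map_of_mem _
      (Ideal.subset_span rfl)⟩
    rw [Ideal.span_le]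
    simpa using ha
  · exact ⟨⊥, bot_le, Submodule.fg_bot, zero_mem _⟩
  · rintro x y - - ⟨I₁, h1, h2, h3⟩ ⟨I₂, h4, h5, h6⟩
    exact ⟨I₁ ⊔ I₂, sup_le h1 h4, Submodule.FG.sup h2 h5, add_mem (Ideal.map_mono le_sup_left h3)
      (Ideal.map_mono le_sup_right h6)⟩
  · rintro a x - ⟨I₁, h1, h2, h3⟩
    exact ⟨I₁, h1, h2, Ideal.mul_mem_left _ _ h3⟩

theorem exists_fg_le_of_forall_mem_map {R S : Type*} [CommRing R] [CommRing S] [Algebra R S]
    (I : Ideal R) {ι : Type*} (s : Finset ι) (y : ι → S)
    (hy : ∀ i ∈ s, y i ∈ I.map (algebraMap R S)) :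
    ∃ I' ≤ I, I'.FG ∧ ∀ i ∈ s, y i ∈ I'.map (algebraMap R S) := by
  classical
  induction s using Finset.induction_on with
  | empty => exact ⟨⊥, bot_le, Submodule.fg_bot, by simp⟩
  | insert a s ha ih =>
    obtain ⟨I₁, h1, h2, h3⟩ := ih (fun i hi => hy i (Finset.mem_insert_of_mem hi))
    obtain ⟨I₂, h4, h5, h6⟩ := exists_fg_le_of_mem_map I (y a) (hy a (Finset.mem_insert_self _ _))
    refine ⟨I₁ ⊔ I₂, sup_le h1 h4, Submodule.FG.sup h2 h5, fun i hi => ?_⟩
    rcases Finset.mem_insert.1 hi with rfl | hi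
    · exact Ideal.map_mono le_sup_right h6
    · exact Ideal.map_mono le_sup_left (h3 i hi)

theorem isNilpotent_of_fg_of_forall {R : Type*} [CommRing R] {I I' : Ideal R}
    (hI : ∀ x ∈ I, IsNilpotent x) (h : I' ≤ I) (hfg : I'.FG) : IsNilpotent I' := by
  rw [Ideal.FG.isNilpotent_iff_le_nilradical hfg]
  intro x hx
  exact hI x (h hx)

theorem surjective_of_surjective_mod (R S S' : Type*) [CommRing R] [CommRing S]
    [CommRing S'] [Algebra R S] [Algebra R S'] [Algebra.FiniteType R S'] (I : Ideal R)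
    (hI : ∀ x ∈ I, IsNilpotent x) (f : S →ₐ[R] S')
    (hf : Function.Surjective ((Ideal.Quotient.mk (I.map (algebraMap R S'))).comp f.toRingHom)) :
    Function.Surjective f := by
  obtain ⟨s, hs⟩ := (inferInstance : Algebra.FiniteType R S').out
  have h1 : ∀ x : S', ∃ t : S, x - f t ∈ I.map (algebraMap R S') := by
    intro x
    obtain ⟨t, ht⟩ := hf (Ideal.Quotient.mk _ x)
    refine ⟨t, ?_⟩
    rw [← Ideal.Quotient.eq]
    exact ht.symm
  choose g hg using h1
  obtain ⟨I', hI', hfg, hmem⟩ := exists_fg_le_of_forall_mem_map I s (fun x => x - f (g x))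
    (fun x _ => hg x)
  have hnil := isNilpotent_of_fg_of_forall hI hI' hfg
  let π : S' →ₐ[R] S' ⧸ I'.map (algebraMap R S') := Ideal.Quotient.mkₐ R _
  have hsurj : Function.Surjective (π.comp f) := by
    rw [← AlgHom.range_eq_top, ← top_le_iff]
    have : (⊤ : Subalgebra R (S' ⧸ I'.map (algebraMap R S'))) = (Algebra.adjoin R (s : Set S')).map π := by
      rw [hs, Algebra.map_top, (AlgHom.range_eq_top π).2 (Ideal.Quotient.mkₐ_surjective _ _)]
    rw [this, AlgHom.map_adjoin, Algebra.adjoin_le_iff]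
    rintro _ ⟨x, hx, rfl⟩
    refine ⟨g x, ?_⟩
    have := hmem x hx
    rw [← Ideal.Quotient.eq] at this
    exact this.symm
  have htop : f.toLinearMap.range ⊔ I' • (⊤ : Submodule R S') = ⊤ := by
    rw [eq_top_iff]
    intro x _
    obtain ⟨t, ht⟩ := hsurj (π x)
    have h2 : x - f t ∈ I'.map (algebraMap R S') := by
      rw [← Ideal.Quotient.eq]
      exact ht.symm
    have h3 : x - f t ∈ I' • (⊤ : Submodule R S') := by
      rw [Ideal.smul_top_eq_map]
      exact h2
    have h4 : x = f t + (x - f t) := by ring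
    rw [h4]
    exact Submodule.add_mem_sup ⟨t, rfl⟩ h3
  have := eq_top_of_sup_smul_eq_top hnil _ htop
  exact LinearMap.range_eq_top.1 this

theorem bijective_of_bijective_mod (R S S' : Type*)
    [CommRing R] [CommRing S] [CommRing S'] [Algebra R S] [Algebra R S'] [Algebra.FiniteType R S]
    [Algebra.FinitePresentation R S'] [Module.Flat R S'] (I : Ideal R) (hI : ∀ x ∈ I, IsNilpotent x)
    (f : S →ₐ[R] S')
    (hsurj : Function.Surjective ((Ideal.Quotient.mk (I.map (algebraMap R S'))).comp f.toRingHom))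
    (hker : ∀ s : S, f s ∈ I.map (algebraMap R S') → s ∈ I.map (algebraMap R S)) :
    Function.Bijective f := by
  have hf : Function.Surjective f := surjective_of_surjective_mod R S S' I hI f hsurj
  refine ⟨?_, hf⟩
  algebraize [f.toRingHom]
  have : IsScalarTower R S S' := IsScalarTower.of_algebraMap_eq' f.comp_algebraMap.symm
  have : Algebra.FinitePresentation S S' :=
    Algebra.FinitePresentation.of_restrict_scalars_finitePresentation R S S'
  have hfg : (RingHom.ker (Algebra.ofId S S').toRingHom).FG :=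
    Algebra.FinitePresentation.ker_fG_of_surjective (Algebra.ofId S S') hf
  obtain ⟨s, hs⟩ := hfg
  have hmem : ∀ x ∈ s, x ∈ I.map (algebraMap R S) := by
    intro x hx
    apply hker
    have : x ∈ RingHom.ker (Algebra.ofId S S').toRingHom := by
      rw [← hs]; exact Ideal.subset_span hx
    have h0 : f x = 0 := this
    rw [h0]
    exact zero_mem _
  obtain ⟨I', hI', hfg, hmem'⟩ := exists_fg_le_of_forall_mem_map I s id hmem
  have hnil := isNilpotent_of_fg_of_forall hI hI' hfg
  have hle : RingHom.ker (Algebra.ofId S S').toRingHom ≤ I'.map (algebraMap R S) := by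
    rw [← hs, Ideal.span_le]
    exact fun x hx => hmem' x hx
  have hle2 : LinearMap.ker f.toLinearMap ≤ I' • LinearMap.ker f.toLinearMap := by
    refine le_trans ?_ (Groth.Agent.Flat2D.NilpAlg.ker_inf_smul_top I' f.toLinearMap hf)
    refine le_inf le_rfl ?_
    intro x hx
    rw [Ideal.smul_top_eq_map]
    exact hle hx
  have := eq_bot_of_le_smul hnil _ hle2
  rw [LinearMap.ker_eq_bot] at this
  exact this

end K68.NilSurj
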