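import Groth.Agent.Ega4dA.LenRank
import Groth.Agent.CycB.SemiLocalLen
import Groth.Agent.CAlg.K68.KAk

/-!
# Lengths of `M / tM` for modules of rank `n` over a one-dimensional Noetherian local domain
-/

set_option autoImplicit false

namespace K68.OrdDegree

open Groth.Agent.Ega4dA.LenDefect Groth.Agent.Ega4dA.LenDim1 Groth.Agent.Ega4dA.LenRank
open scoped Pointwise

universe u v w

section

variable {A : Type*} [CommRing A] [IsNoetherianRing A] [Ring.KrullDimLE 1 A]
variable {M : Type*} [AddCommGroup M] [Module A M]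

/-- Length of `M/tM` for a finite module with a free submodule of rank `n` and torsion quotient. -/
theorem length_coker_eq' [Module.Finite A M] {t : A} (ht : t ∈ nonZeroDivisors A) (n : ℕ)
    (f : (Fin n → A) →ₗ[A] M) (hf : Function.Injective f)
    (hs : ∀ y : M, ∃ s ∈ nonZeroDivisors A, s • y ∈ LinearMap.range f) :
    Module.length A (M ⧸ LinearMap.range (t • (LinearMap.id : M →ₗ[A] M))) =
      Module.length A (LinearMap.ker (t • (LinearMap.id : M →ₗ[A] M))) +
        n * Module.length A (A ⧸ Ideal.span {t}) := by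
  obtain ⟨s, hs, hs'⟩ := exists_smul_eq_zero_of_finite (M := M ⧸ LinearMap.range f)
    (nonZeroDivisors A) (by
      intro y
      obtain ⟨y, rfl⟩ := Submodule.Quotient.mk_surjective _ y
      obtain ⟨s, hs, h⟩ := hs y
      refine ⟨s, hs, ?_⟩
      rw [← Submodule.Quotient.mk_smul, Submodule.Quotient.mk_eq_zero]
      exact h)
  have hfin : Module.length A (M ⧸ LinearMap.range f) < ⊤ :=
    length_lt_top_of_smul_eq_zero hs hs'
  have H₁ := finKC_smul (M := Fin n → A) ht
  have H₂ := finKC_smul (M := M) ht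
  have H₃ := finKC_smul (M := M ⧸ LinearMap.range f) ht
  have key := chi_add (t • (LinearMap.id : (Fin n → A) →ₗ[A] (Fin n → A)))
    (t • (LinearMap.id : M →ₗ[A] M))
    (t • (LinearMap.id : (M ⧸ LinearMap.range f) →ₗ[A] (M ⧸ LinearMap.range f)))
    f (LinearMap.range f).mkQ hf
    (Submodule.mkQ_surjective _) (LinearMap.exact_map_mkQ_range f) (by ext; simp) (by ext; simp) H₁ H₃
  rw [chi_eq_zero_of_length_lt_top _ hfin, add_zero] at key
  unfold chi at key
  rw [ker_smul_pi n ht] at key
  rw [← coker_smul_pi]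
  have e1 := ENat.natCast_toNat H₂.1.ne
  have e2 := ENat.natCast_toNat H₂.2.ne
  have e3 := ENat.natCast_toNat H₁.2.ne
  rw [← e1, ← e2, ← e3]
  norm_cast
  simp only [ENat.toNat_zero, Nat.cast_zero, zero_sub] at key
  omega

end

section

variable {A : Type*} [CommRing A] [IsDomain A] [IsNoetherianRing A] [Ring.KrullDimLE 1 A]
variable {M : Type*} [AddCommGroup M] [Module A M]

theorem length_ker_smul_eq_zero [Module.IsTorsionFree A M] {t : A} (ht : t ≠ 0) :
    Module.length A (LinearMap.ker (t • (LinearMap.id : M →ₗ[A] M))) = 0 := by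
  have : LinearMap.ker (t • (LinearMap.id : M →ₗ[A] M)) = ⊥ := by
    rw [LinearMap.ker_eq_bot']
    intro m hm
    have h1 : t • m = 0 := hm
    exact (smul_eq_zero.mp h1).resolve_left ht
  rw [this]
  exact Module.length_eq_zero

theorem length_eq_mul [Module.Finite A M] [Module.IsTorsionFree A M] {t : A} (ht : t ≠ 0) (n : ℕ)
    (f : (Fin n → A) →ₗ[A] M) (hf : Function.Injective f)
    (hs : ∀ y : M, ∃ s : A, s ≠ 0 ∧ s • y ∈ LinearMap.range f) :
    Module.length A (M ⧸ LinearMap.range (t • (LinearMap.id : M →ₗ[A] M))) =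
      n * Module.length A (A ⧸ Ideal.span {t}) := by
  rw [length_coker_eq' (mem_nonZeroDivisors_of_ne_zero ht) n f hf fun y => by
    obtain ⟨s, hs, h⟩ := hs y
    exact ⟨s, mem_nonZeroDivisors_of_ne_zero hs, h⟩, length_ker_smul_eq_zero ht, zero_add]

theorem injective_of_length_eq {R : Type*} [CommRing R] {X Y : Type*} [AddCommGroup X] [Module R X]
    [AddCommGroup Y] [Module R Y] (φ : X →ₗ[R] Y) (hφ : Function.Surjective φ)
    (h : Module.length R X = Module.length R Y) (h' : Module.length R Y ≠ ⊤) :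
    Function.Injective φ := by
  have h1 := Module.length_eq_add_of_exact (LinearMap.ker φ).subtype φ
    (Submodule.subtype_injective _) hφ (by
      intro x
      simp)
  rw [h] at h1
  have h2 : Module.length R (LinearMap.ker φ) = 0 := by
    have h3 : Module.length R (LinearMap.ker φ) ≠ ⊤ := by
      intro h4
      rw [h4, top_add] at h1
      exact h' h1
    lift Module.length R (LinearMap.ker φ) to ℕ using h3 with a
    lift Module.length R Y to ℕ using h' with b
    norm_cast at h1 ⊢
    omega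
  rw [Module.length_eq_zero_iff] at h2
  rw [← LinearMap.ker_eq_bot]
  exact (Submodule.subsingleton_iff_eq_bot).mp h2

/-- In a one-dimensional local domain every nonzero element divides a power of any element of the
maximal ideal. -/
theorem exists_dvd_pow [IsLocalRing A] {t s : A} (ht : t ∈ IsLocalRing.maximalIdeal A) (hs : s ≠ 0) :
    ∃ k : ℕ, s ∣ t ^ k := by
  have h1 : Module.length A (A ⧸ Ideal.span {s}) ≠ ⊤ :=
    Ring.ord_ne_top (mem_nonZeroDivisors_of_ne_zero hs)
  rw [Module.length_ne_top_iff, isFiniteLength_iff_isNoetherian_isArtinian] at h1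
  have h2 : IsArtinianRing (A ⧸ Ideal.span {s}) := isArtinian_of_tower A h1.2
  obtain ⟨k, hk⟩ := IsArtinianRing.isNilpotent_jacobson_bot (R := A ⧸ Ideal.span {s})
  refine ⟨k, ?_⟩
  have h3 : Ideal.Quotient.mk (Ideal.span {s}) t ∈ Ideal.jacobson (⊥ : Ideal (A ⧸ Ideal.span {s})) := by
    rw [Ideal.mem_jacobson_bot]
    intro y
    obtain ⟨y, rfl⟩ := Ideal.Quotient.mk_surjective y
    have h4 : IsUnit (t * y + 1) := by
      by_contra h5
      have h6 : t * y + 1 ∈ IsLocalRing.maximalIdeal A := (IsLocalRing.mem_maximalIdeal _).mpr h5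
      have h7 := Ideal.sub_mem _ h6 (Ideal.mul_mem_right y _ ht)
      rw [add_sub_cancel_left] at h7
      exact (Ideal.ne_top_iff_one _).mp (IsLocalRing.maximalIdeal.isMaximal A).ne_top h7
    simpa using h4.map (Ideal.Quotient.mk (Ideal.span {s}))
  have h4 := Ideal.pow_mem_pow h3 k
  rw [hk, ← map_pow] at h4
  rw [← Ideal.mem_span_singleton, ← Ideal.Quotient.eq_zero_iff_mem]
  simpa using h4

/-- If `M/tM` has the maximal possible length then `M` is finite. -/
theorem finite_of_length_eq [IsLocalRing A] [Module.IsTorsionFree A M] {t : A} (ht0 : t ≠ 0)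
    (ht : t ∈ IsLocalRing.maximalIdeal A) (n : ℕ) (f : (Fin n → A) →ₗ[A] M)
    (hf : Function.Injective f)
    (hs : ∀ y : M, ∃ s : A, s ≠ 0 ∧ s • y ∈ LinearMap.range f)
    (h : Module.length A (M ⧸ LinearMap.range (t • (LinearMap.id : M →ₗ[A] M))) =
      n * Module.length A (A ⧸ Ideal.span {t})) : Module.Finite A M := by
  classical
  have hne : Module.length A (M ⧸ LinearMap.range (t • (LinearMap.id : M →ₗ[A] M))) ≠ ⊤ := by
    rw [h]
    exact WithTop.mul_ne_top (ENat.natCast_ne_top _)
      (Ring.ord_ne_top (mem_nonZeroDivisors_of_ne_zero ht0))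
  have hfl := Module.length_ne_top_iff.mp hne
  rw [isFiniteLength_iff_isNoetherian_isArtinian] at hfl
  have hno := hfl.1
  obtain ⟨m, s, hspan⟩ := Module.Finite.exists_fin (R := A)
    (M := M ⧸ LinearMap.range (t • (LinearMap.id : M →ₗ[A] M)))
  choose g hg using fun i => Submodule.Quotient.mk_surjective _ (s i)
  let N : Submodule A M := Submodule.span A (Set.range g) ⊔ LinearMap.range f
  have hNfg : N.FG := by
    refine Submodule.FG.sup (Submodule.fg_span (Set.finite_range _)) ?_
    rw [LinearMap.range_eq_map]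
    exact Submodule.FG.map _ Module.Finite.fg_top
  have hNf : Module.Finite A N := Module.Finite.iff_fg.mpr hNfg
  have hfN : ∀ c, f c ∈ N := fun c => Submodule.mem_sup_right ⟨c, rfl⟩
  let f' : (Fin n → A) →ₗ[A] N := f.codRestrict N hfN
  have hf' : Function.Injective f' := by
    intro a b hab
    exact hf (congrArg Subtype.val hab)
  have hs' : ∀ y : N, ∃ s : A, s ≠ 0 ∧ s • y ∈ LinearMap.range f' := by
    intro y
    obtain ⟨s, hs0, c, hc⟩ := hs y
    exact ⟨s, hs0, c, Subtype.ext hc⟩
  have hlen := length_eq_mul (M := N) ht0 n f' hf' hs'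
  let φ : (N ⧸ LinearMap.range (t • (LinearMap.id : N →ₗ[A] N))) →ₗ[A]
      (M ⧸ LinearMap.range (t • (LinearMap.id : M →ₗ[A] M))) :=
    Submodule.mapQ _ _ N.subtype (by
      rintro _ ⟨y, rfl⟩
      exact ⟨y, rfl⟩)
  have hφ : Function.Surjective φ := by
    rw [← LinearMap.range_eq_top, ← top_le_iff, ← hspan, Submodule.span_le]
    rintro _ ⟨i, rfl⟩
    refine ⟨Submodule.Quotient.mk ⟨g i, Submodule.mem_sup_left (Submodule.subset_span ⟨i, rfl⟩)⟩, ?_⟩
    rw [← hg i]
    rfl
  have hinj := injective_of_length_eq φ hφ (hlen.trans h.symm) hne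
  have hdiv : ∀ y : M, t • y ∈ N → y ∈ N := by
    intro y hy
    have h1 : φ (Submodule.Quotient.mk ⟨t • y, hy⟩) = 0 := by
      change (Submodule.Quotient.mk (t • y) :
        M ⧸ LinearMap.range (t • (LinearMap.id : M →ₗ[A] M))) = 0
      rw [Submodule.Quotient.mk_eq_zero]
      exact ⟨y, rfl⟩
    have h2 := (map_eq_zero_iff φ hinj).mp h1
    rw [Submodule.Quotient.mk_eq_zero] at h2
    obtain ⟨z, hz⟩ := h2
    have h3 : t • (z : M) = t • y := congrArg Subtype.val hz
    have h4 : (z : M) = y := smul_right_injective M ht0 h3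
    rw [← h4]
    exact z.2
  have hdiv' : ∀ (k : ℕ) (y : M), t ^ k • y ∈ N → y ∈ N := by
    intro k
    induction k with
    | zero => intro y hy; simpa using hy
    | succ k ih =>
      intro y hy
      rw [pow_succ, mul_smul] at hy
      exact hdiv _ (ih _ hy)
  have htop : N = ⊤ := by
    rw [eq_top_iff]
    intro y _
    obtain ⟨s, hs0, c, hc⟩ := hs y
    obtain ⟨k, r, hr⟩ := exists_dvd_pow ht hs0
    refine hdiv' k y ?_
    rw [hr, mul_comm, mul_smul, ← hc]
    exact N.smul_mem _ (hfN c)
  rw [htop] at hNfg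
  exact ⟨hNfg⟩

end

end K68.OrdDegree
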