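import Mathlib.RingTheory.QuasiFinite.Basic
import Mathlib.RingTheory.Flat.Localization
import Mathlib.RingTheory.Localization.AtPrime.Basic
import Groth.Agent.Flat2D.CMFlatArt

/-!
# Quasi-finite algebras: closed fibres and Cohen-Macaulayness
-/

set_option autoImplicit false

namespace K68.QFin

universe u v

open IsLocalRing

/-- The closed fibre of a quasi-finite algebra over a local ring is Artinian. -/
theorem isArtinianRing_fibre (A : Type u) (B : Type v) [CommRing A] [CommRing B] [Algebra A B]
    [IsLocalRing A] [Algebra.QuasiFinite A B] :
    IsArtinianRing (B ⧸ (maximalIdeal A).map (algebraMap A B)) := by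
  let : Field (A ⧸ maximalIdeal A) := Ideal.Quotient.field _
  have : Algebra.QuasiFinite (A ⧸ maximalIdeal A) (B ⧸ (maximalIdeal A).map (algebraMap A B)) :=
    Algebra.QuasiFinite.of_restrictScalars A _ _
  have : Module.Finite (A ⧸ maximalIdeal A) (B ⧸ (maximalIdeal A).map (algebraMap A B)) :=
    Module.Finite.of_quasiFinite
  exact isArtinian_of_tower (A ⧸ maximalIdeal A) inferInstance

section

variable (A B : Type u) [CommRing A] [CommRing B] [Algebra A B] [Algebra.QuasiFinite A B]
  (q : Ideal B) [q.IsPrime]

/-- A localization of a quasi-finite algebra which is flat over the base is Cohen-Macaulay as soon as the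
local ring of the base is. -/
theorem isCohenMacaulay_of_flat [IsNoetherianRing B]
    [h : LocCoh.IsCohenMacaulayLocalRing (Localization.AtPrime (q.under A))]
    [Module.Flat A (Localization.AtPrime q)] :
    LocCoh.IsCohenMacaulayLocalRing (Localization.AtPrime q) := by
  let : Algebra (Localization.AtPrime (q.under A)) (Localization.AtPrime q) :=
    (Localization.localRingHom (q.under A) q (algebraMap A B) rfl).toAlgebra
  have : IsScalarTower A (Localization.AtPrime (q.under A)) (Localization.AtPrime q) :=
    IsScalarTower.of_algebraMap_eq fun x =>
      (Localization.localRingHom_to_map (q.under A) q (algebraMap A B) rfl x).symm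
  have : IsLocalHom (algebraMap (Localization.AtPrime (q.under A)) (Localization.AtPrime q)) :=
    Localization.isLocalHom_localRingHom (q.under A) q (algebraMap A B) rfl
  have : Module.Flat (Localization.AtPrime (q.under A)) (Localization.AtPrime q) :=
    (Module.flat_iff_of_isLocalization (Localization.AtPrime (q.under A))
      (q.under A).primeCompl _).2 inferInstance
  have : Algebra.QuasiFinite (Localization.AtPrime (q.under A)) (Localization.AtPrime q) :=
    Algebra.QuasiFinite.of_restrictScalars A _ _
  have := isArtinianRing_fibre (Localization.AtPrime (q.under A)) (Localization.AtPrime q)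
  exact Groth.Agent.Flat2D.CMFlatArt.isCM_of_flat_of_isArtinian_fibre
    (Localization.AtPrime (q.under A)) (Localization.AtPrime q)

end

end K68.QFin
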