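import Mathlib.Algebra.Exact.Basic
import Mathlib.LinearAlgebra.Prod
import Mathlib.Tactic.Abel

/-!
# Homotopy equivalent two-term complexes
-/

set_option autoImplicit false

namespace K68.TwoTerm

universe u v

variable {R : Type u} [CommRing R]
    {A₁ A₀ B₁ B₀ : Type*} [AddCommGroup A₁] [Module R A₁] [AddCommGroup A₀] [Module R A₀]
    [AddCommGroup B₁] [Module R B₁] [AddCommGroup B₀] [Module R B₀]

theorem nonempty_prod_linearEquiv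
    (dA : A₁ →ₗ[R] A₀) (dB : B₁ →ₗ[R] B₀) (φ₁ : A₁ →ₗ[R] B₁) (φ₀ : A₀ →ₗ[R] B₀)
    (ψ₁ : B₁ →ₗ[R] A₁) (ψ₀ : B₀ →ₗ[R] A₀) (hφ : dB ∘ₗ φ₁ = φ₀ ∘ₗ dA) (hψ : dA ∘ₗ ψ₁ = ψ₀ ∘ₗ dB)
    (h : A₀ →ₗ[R] A₁) (hh₁ : LinearMap.id - ψ₁ ∘ₗ φ₁ = h ∘ₗ dA) (hh₀ : LinearMap.id - ψ₀ ∘ₗ φ₀ = dA ∘ₗ h)
    (h' : B₀ →ₗ[R] B₁) (hh'₁ : LinearMap.id - φ₁ ∘ₗ ψ₁ = h' ∘ₗ dB)
    (hh'₀ : LinearMap.id - φ₀ ∘ₗ ψ₀ = dB ∘ₗ h') :
    Nonempty ((A₁ × B₀) ≃ₗ[R] (B₁ × A₀)) := by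
  have hφ' : ∀ a, dB (φ₁ a) = φ₀ (dA a) := fun a => LinearMap.congr_fun hφ a
  have hψ' : ∀ b, dA (ψ₁ b) = ψ₀ (dB b) := fun a => LinearMap.congr_fun hψ a
  have e1 : ∀ a, a - ψ₁ (φ₁ a) = h (dA a) := fun a => LinearMap.congr_fun hh₁ a
  have e0 : ∀ a, a - ψ₀ (φ₀ a) = dA (h a) := fun a => LinearMap.congr_fun hh₀ a
  have f1 : ∀ a, a - φ₁ (ψ₁ a) = h' (dB a) := fun a => LinearMap.congr_fun hh'₁ a
  have f0 : ∀ a, a - φ₀ (ψ₀ a) = dB (h' a) := fun a => LinearMap.congr_fun hh'₀ a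
  let α : A₁ →ₗ[R] B₁ × A₀ := φ₁.prod dA
  let β : B₁ × A₀ →ₗ[R] B₀ := φ₀ ∘ₗ LinearMap.snd R B₁ A₀ - dB ∘ₗ LinearMap.fst R B₁ A₀
  have hα : Function.Injective α := by
    rw [← LinearMap.ker_eq_bot, LinearMap.ker_eq_bot']
    intro a ha
    have h1 : φ₁ a = 0 := congrArg Prod.fst ha
    have h2 : dA a = 0 := congrArg Prod.snd ha
    have := e1 a
    rw [h1, h2, map_zero, map_zero, sub_zero] at this
    exact this
  have hαβ : Function.Exact α β := by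
    rintro ⟨b, a⟩
    constructor
    · intro hab
      have hab' : φ₀ a - dB b = 0 := hab
      rw [sub_eq_zero] at hab'
      set x := h a + ψ₁ b with hx
      have hdx : dA x = a := by
        rw [hx, map_add, ← e0, hψ', hab']
        abel
      have hc : dB (φ₁ x - b) = 0 := by
        rw [map_sub, hφ', hdx, hab', sub_self]
      have hc2 : φ₁ (ψ₁ (φ₁ x - b)) = φ₁ x - b := by
        have := f1 (φ₁ x - b)
        rw [hc, map_zero, sub_eq_zero] at this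
        exact this.symm
      refine ⟨x - ψ₁ (φ₁ x - b), Prod.ext ?_ ?_⟩
      · change φ₁ (x - ψ₁ (φ₁ x - b)) = b
        rw [map_sub, hc2]
        abel
      · change dA (x - ψ₁ (φ₁ x - b)) = a
        rw [map_sub, hψ', hc, map_zero, hdx, sub_zero]
    · rintro ⟨x, hx⟩
      have h1 : φ₁ x = b := congrArg Prod.fst hx
      have h2 : dA x = a := congrArg Prod.snd hx
      change φ₀ a - dB b = 0
      rw [← h1, ← h2, hφ', sub_self]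
  have hs : β ∘ₗ (LinearMap.prod (-h') ψ₀) = LinearMap.id := by
    ext b
    change φ₀ (ψ₀ b) - dB (- h' b) = b
    rw [map_neg, ← f0]
    abel
  exact ⟨((hαβ.splitSurjectiveEquiv hα) ⟨_, hs⟩).1.symm⟩

end K68.TwoTerm
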